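import Cfsg.Agent.Lib.CyclicCorner.Kronecker
import Mathlib.Algebra.MonoidAlgebra.Basic
import Mathlib.Algebra.CharP.Lemmas
import Mathlib.GroupTheory.Coset.Card
import Mathlib.GroupTheory.GroupAction.Quotient

/-!
# The corner of a block with cyclic defect group has a cotangent space of dimension at most one

Two independent derivations of the corner would give modules of unbounded dimension with local
endomorphism rings, while every such module is bounded by the relative projectivity.
-/

set_option autoImplicit false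
set_option linter.unusedSectionVars false

namespace Cfsg.Agent.Lib.CyclicCorner

open Module MonoidAlgebra

variable {k : Type*} [Field k] {G : Type*} [Group G] [Fintype G]

/-- The primitive corner with its residue map and the relative trace of the identity. -/
structure TraceCorner (k : Type*) [Field k] (G : Type*) [Group G] [Fintype G] (P : Subgroup G) where
  i : MonoidAlgebra k G
  idem : i * i = i
  ε : MonoidAlgebra k G →ₗ[k] k
  ε_i : ε i = 1
  ε_mul : ∀ a b, i * a * i = a → i * b * i = b → ε (a * b) = ε a * ε b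
  t : Finset G
  R : G → Subgroup G
  R_le : ∀ g ∈ t, R g ≤ P
  comm : ∀ g ∈ t, ∀ r ∈ R g, Commute r g
  coe : G → k
  Rfin : ∀ g, Fintype (G ⧸ R g)
  e : MonoidAlgebra k G
  e_def : e = ∑ g ∈ t, coe g •
    @Finset.sum (G ⧸ R g) _ _ (@Finset.univ _ (Rfin g)) fun a => single (a.out * g * a.out⁻¹) 1
  e_central : ∀ h : G, single h 1 * e = e * single h 1
  ie : i * e = i

variable {P : Subgroup G}

/-- A derivation of the corner at the residue map. -/
structure IsDer (D : TraceCorner k G P) (α : MonoidAlgebra k G →ₗ[k] k) : Prop where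
  map_i : α D.i = 0
  map_mul : ∀ a b, D.i * a * D.i = a → D.i * b * D.i = b →
    α (a * b) = D.ε a * α b + D.ε b * α a

section

variable (D : TraceCorner k G P)

/-- The sandwich of an element. -/
noncomputable def sw (a : MonoidAlgebra k G) : MonoidAlgebra k G := D.i * a * D.i

theorem sw_sw (a : MonoidAlgebra k G) : D.i * sw D a * D.i = sw D a := by
  rw [sw, show D.i * (D.i * a * D.i) * D.i = (D.i * D.i) * a * (D.i * D.i) by simp only [mul_assoc],
    D.idem]

theorem mul_i_of_mem {l : MonoidAlgebra k G} (hl : D.i * l * D.i = l) : l * D.i = l := by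
  conv_lhs => rw [← hl]
  rw [mul_assoc, D.idem, hl]

theorem i_mul_of_mem {l : MonoidAlgebra k G} (hl : D.i * l * D.i = l) : D.i * l = l := by
  conv_lhs => rw [← hl]
  rw [← mul_assoc, ← mul_assoc, D.idem, hl]

theorem i_mem : D.i * D.i * D.i = D.i := by rw [D.idem, D.idem]

variable (α β : MonoidAlgebra k G →ₗ[k] k) (s : ℕ)

/-- The action of a corner element on the Kronecker space. -/
noncomputable def rhoW : MonoidAlgebra k G →ₗ[k] Module.End k (KW k s) :=
  D.ε.smulRight (1 : Module.End k (KW k s)) + α.smulRight (liftMap (kX k s)) +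
    β.smulRight (liftMap (kY k s))

theorem rhoW_apply (a : MonoidAlgebra k G) : rhoW D α β s a =
    D.ε a • (1 : Module.End k (KW k s)) + α a • liftMap (kX k s) + β a • liftMap (kY k s) := rfl

theorem liftMap_mul_liftMap (h h' : (Fin s → k) →ₗ[k] (Fin (s + 1) → k)) :
    liftMap h * liftMap h' = 0 :=
  LinearMap.ext fun x => by
    rw [Module.End.mul_apply, liftMap_apply, liftMap_apply, map_zero]
    rfl

variable {α β}

theorem rhoW_i (hα : IsDer D α) (hβ : IsDer D β) : rhoW D α β s D.i = 1 := by
  rw [rhoW_apply, D.ε_i, hα.map_i, hβ.map_i, zero_smul, zero_smul, one_smul, add_zero, add_zero]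

theorem rhoW_mul (hα : IsDer D α) (hβ : IsDer D β) {a b : MonoidAlgebra k G}
    (ha : D.i * a * D.i = a) (hb : D.i * b * D.i = b) :
    rhoW D α β s (a * b) = rhoW D α β s a * rhoW D α β s b := by
  rw [rhoW_apply, rhoW_apply, rhoW_apply, D.ε_mul a b ha hb, hα.map_mul a b ha hb,
    hβ.map_mul a b ha hb]
  simp only [mul_add, add_mul, smul_mul_smul_comm, one_mul, mul_one, liftMap_mul_liftMap,
    smul_zero, add_zero, add_smul, mul_comm (D.ε b)]
  abel

variable (α β)

/-- The extension of a function on the group to the group algebra. -/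
noncomputable def ext (φ : G → KW k s) : MonoidAlgebra k G →ₗ[k] KW k s where
  toFun x := ∑ g : G, x.coeff g • φ g
  map_add' x y := by simp [add_smul, Finset.sum_add_distrib]
  map_smul' c x := by simp [Finset.smul_sum, smul_smul]

theorem ext_single (φ : G → KW k s) (g : G) (c : k) : ext s φ (single g c) = c • φ g := by
  classical
  show ∑ h : G, (single g c).coeff h • φ h = _
  simp only [MonoidAlgebra.coeff_single, Finsupp.single_apply]
  simp [ite_smul]

theorem ext_add (φ ψ : G → KW k s) (x : MonoidAlgebra k G) :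
    ext s (φ + ψ) x = ext s φ x + ext s ψ x := by
  show ∑ h : G, _ = (∑ h : G, _) + ∑ h : G, _
  simp [smul_add, Finset.sum_add_distrib]

theorem ext_smul (c : k) (φ : G → KW k s) (x : MonoidAlgebra k G) :
    ext s (c • φ) x = c • ext s φ x := by
  show ∑ h : G, _ = c • ∑ h : G, _
  rw [Finset.smul_sum]
  exact Finset.sum_congr rfl fun h _ => by rw [Pi.smul_apply, smul_comm]

/-- The coinduced module. -/
noncomputable def Coind : Submodule k (G → KW k s) where
  carrier := {φ | ∀ l, D.i * l * D.i = l → ∀ g, ext s φ (l * single g 1) = rhoW D α β s l (φ g)}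
  add_mem' {φ ψ} hφ hψ := fun l hl g => by
    rw [ext_add, hφ l hl g, hψ l hl g, Pi.add_apply, map_add]
  zero_mem' := fun l _ g => by
    show ∑ h : G, _ = _
    simp
  smul_mem' c φ hφ := fun l hl g => by rw [ext_smul, hφ l hl g, Pi.smul_apply, map_smul]

variable {α β}

theorem mem_coind_iff {φ : G → KW k s} : φ ∈ Coind D α β s ↔
    ∀ l, D.i * l * D.i = l → ∀ g, ext s φ (l * single g 1) = rhoW D α β s l (φ g) := Iff.rfl

/-- An element of the group algebra acting on functions. -/
noncomputable def actFun (x : MonoidAlgebra k G) (φ : G → KW k s) : G → KW k s :=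
  fun g => ext s φ (single g 1 * x)

theorem ext_actFun (x : MonoidAlgebra k G) (φ : G → KW k s) (y : MonoidAlgebra k G) :
    ext s (actFun s x φ) y = ext s φ (y * x) := by
  induction y using MonoidAlgebra.induction_linear with
  | zero => rw [map_zero, zero_mul, map_zero]
  | single g c =>
    rw [ext_single, actFun, ← map_smul, ← smul_mul_assoc, MonoidAlgebra.smul_single',
      mul_one]
  | add a b ha hb => rw [map_add, ha, hb, add_mul, map_add]

theorem mem_coind_ext {φ : G → KW k s} (hφ : φ ∈ Coind D α β s) {l : MonoidAlgebra k G}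
    (hl : D.i * l * D.i = l) (y : MonoidAlgebra k G) :
    ext s φ (l * y) = rhoW D α β s l (ext s φ y) := by
  induction y using MonoidAlgebra.induction_linear with
  | zero => simp
  | single g c =>
    rw [show single g c = c • single g (1 : k) by rw [MonoidAlgebra.smul_single', mul_one],
      mul_smul_comm, map_smul, map_smul, hφ l hl g, map_smul, ext_single, one_smul]
  | add a b ha hb => rw [mul_add, map_add, ha, hb, map_add, map_add]

theorem actFun_mem (x : MonoidAlgebra k G) {φ : G → KW k s} (hφ : φ ∈ Coind D α β s) :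
    actFun s x φ ∈ Coind D α β s := fun l hl g => by
  rw [ext_actFun, mul_assoc, mem_coind_ext D s hφ hl]
  rfl

/-- The action on the coinduced module. -/
noncomputable def act (x : MonoidAlgebra k G) : Module.End k (Coind D α β s) where
  toFun φ := ⟨actFun s x φ.1, actFun_mem D s x φ.2⟩
  map_add' φ ψ := Subtype.ext (funext fun g => ext_add s _ _ _)
  map_smul' c φ := Subtype.ext (funext fun g => ext_smul s c _ _)

theorem act_apply (x : MonoidAlgebra k G) (φ : Coind D α β s) (g : G) :
    (act D s x φ).1 g = ext s φ.1 (single g 1 * x) := rfl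

theorem act_mul (x y : MonoidAlgebra k G) :
    act D (α := α) (β := β) s (x * y) = act D s x * act D s y :=
  LinearMap.ext fun φ => Subtype.ext (funext fun g => by
    show ext s φ.1 (single g 1 * (x * y)) = ext s (actFun s y φ.1) (single g 1 * x)
    rw [ext_actFun, mul_assoc])

theorem act_one : act D (α := α) (β := β) s 1 = 1 :=
  LinearMap.ext fun φ => Subtype.ext (funext fun g => by
    rw [act_apply, mul_one, ext_single, one_smul]; rfl)

theorem act_sum {ι : Type*} (t : Finset ι) (f : ι → MonoidAlgebra k G) :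
    act D (α := α) (β := β) s (∑ j ∈ t, f j) = ∑ j ∈ t, act D s (f j) :=
  LinearMap.ext fun φ => Subtype.ext (funext fun g => by
    rw [act_apply, Finset.mul_sum, map_sum, LinearMap.sum_apply, AddSubmonoidClass.coe_finsetSum,
      Finset.sum_apply]
    rfl)

theorem act_smul (c : k) (x : MonoidAlgebra k G) :
    act D (α := α) (β := β) s (c • x) = c • act D s x :=
  LinearMap.ext fun φ => Subtype.ext (funext fun g => by
    rw [act_apply, mul_smul_comm, map_smul]; rfl)

theorem ext_i_mul (hα : IsDer D α) (hβ : IsDer D β) {φ : G → KW k s} (hφ : φ ∈ Coind D α β s)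
    (y : MonoidAlgebra k G) : ext s φ (D.i * y) = ext s φ y := by
  rw [mem_coind_ext D s hφ (i_mem D), rhoW_i D s hα hβ, Module.End.one_apply]

theorem act_e (hα : IsDer D α) (hβ : IsDer D β) : act D (α := α) (β := β) s D.e = 1 := by
  refine LinearMap.ext fun φ => Subtype.ext (funext fun g => ?_)
  rw [act_apply, ← ext_i_mul D s hα hβ φ.2, ← mul_assoc, mul_assoc D.i, D.e_central, ← mul_assoc,
    D.ie, ext_i_mul D s hα hβ φ.2, ext_single, one_smul]
  rfl

/-- The element of the coinduced module with a given value at `i`. -/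
noncomputable def psi (hα : IsDer D α) (hβ : IsDer D β) : KW k s →ₗ[k] Coind D α β s where
  toFun w := ⟨fun g => rhoW D α β s (sw D (single g 1)) w, fun l hl g => by
    have key : ∀ y, ext s (fun g => rhoW D α β s (sw D (single g 1)) w) y =
        rhoW D α β s (sw D y) w := fun y => by
      induction y using MonoidAlgebra.induction_linear with
      | zero => simp [sw]
      | single h c =>
        rw [ext_single, show single h c = c • single h (1 : k) by
          rw [MonoidAlgebra.smul_single', mul_one], sw, sw, mul_smul_comm, smul_mul_assoc, map_smul]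
        rfl
      | add a b ha hb =>
        rw [map_add, ha, hb, sw, sw, sw, mul_add, add_mul, map_add, LinearMap.add_apply]
    rw [key, show sw D (l * single g 1) = l * sw D (single g 1) by
      rw [sw, sw, ← mul_assoc D.i l, i_mul_of_mem D hl, ← mul_assoc l, ← mul_assoc l,
        mul_i_of_mem D hl],
      rhoW_mul D s hα hβ hl (sw_sw D _), Module.End.mul_apply]⟩
  map_add' w w' := Subtype.ext (funext fun g => map_add _ w w')
  map_smul' c w := Subtype.ext (funext fun g => map_smul _ c w)

theorem psi_one (hα : IsDer D α) (hβ : IsDer D β) (w : KW k s) :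
    (psi D s hα hβ w).1 1 = w := by
  show rhoW D α β s (sw D (single 1 1)) w = w
  rw [sw, ← MonoidAlgebra.one_def, mul_one, D.idem, rhoW_i D s hα hβ, Module.End.one_apply]

theorem act_i_apply (hα : IsDer D α) (hβ : IsDer D β) (φ : Coind D α β s) :
    act D s D.i φ = psi D s hα hβ (φ.1 1) := by
  refine Subtype.ext (funext fun g => ?_)
  show ext s φ.1 (single g 1 * D.i) = rhoW D α β s (sw D (single g 1)) (φ.1 1)
  have h := φ.2 _ (sw_sw D (single g 1)) 1
  rw [← MonoidAlgebra.one_def, mul_one] at h
  rw [← h, sw, mul_assoc, ext_i_mul D s hα hβ φ.2]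

theorem act_psi (hα : IsDer D α) (hβ : IsDer D β) {l : MonoidAlgebra k G} (hl : D.i * l * D.i = l)
    (w : KW k s) : act D s l (psi D s hα hβ w) = psi D s hα hβ (rhoW D α β s l w) := by
  refine Subtype.ext (funext fun g => ?_)
  show ext s (psi D s hα hβ w).1 (single g 1 * l) = rhoW D α β s (sw D (single g 1)) _
  have h := (psi D s hα hβ w).2 _ (sw_sw D (single g 1 * l)) 1
  rw [← MonoidAlgebra.one_def, mul_one, psi_one] at h
  rw [show sw D (single g 1 * l) = sw D (single g 1) * l by
      rw [sw, sw, mul_assoc (D.i * single g 1), i_mul_of_mem D hl, mul_assoc, mul_assoc,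
        mul_i_of_mem D hl, ← mul_assoc],
    rhoW_mul D s hα hβ (sw_sw D _) hl, Module.End.mul_apply] at h
  rw [← h, ← ext_i_mul D s hα hβ (psi D s hα hβ w).2]
  congr 1
  rw [sw, ← mul_assoc, mul_assoc (D.i * single g 1), i_mul_of_mem D hl]

end

/-- The dimension of a finite supremum. -/
theorem finrank_biSup_le' {V : Type*} [AddCommGroup V] [Module k V] [FiniteDimensional k V]
    {ι : Type*} (t : Finset ι) (S : ι → Submodule k V) :
    finrank k (⨆ b ∈ t, S b : Submodule k V) ≤ ∑ b ∈ t, finrank k (S b) := by
  classical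
  induction t using Finset.induction_on with
  | empty => simp
  | insert b t hb ih =>
    rw [Finset.iSup_insert, Finset.sum_insert hb]
    exact (Submodule.finrank_add_le_finrank_add_finrank _ _).trans (Nat.add_le_add_left ih _)

/-- **No two independent derivations.** -/
theorem no_two_derivations {p : ℕ} [Fact p.Prime] [CharP k p] (D : TraceCorner k G P) {u : G}
    (hP : P = Subgroup.zpowers u) {a : ℕ} (hu : u ^ p ^ a = 1)
    {α β : MonoidAlgebra k G →ₗ[k] k} (hα : IsDer D α) (hβ : IsDer D β)
    {lx ly : MonoidAlgebra k G} (hlx : D.i * lx * D.i = lx) (hly : D.i * ly * D.i = ly)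
    (hx : D.ε lx = 0 ∧ α lx = 1 ∧ β lx = 0) (hy : D.ε ly = 0 ∧ α ly = 0 ∧ β ly = 1) : False := by
  classical
  obtain ⟨s, hs⟩ : ∃ s : ℕ, s = Fintype.card G * p ^ a + 1 := ⟨_, rfl⟩
  set N := Coind D α β s with hN
  let ag : G → Module.End k N := fun g => act D s (single g 1)
  have hmul : ∀ g h, ag (g * h) = ag g * ag h := fun g h => by
    show act D s _ = _
    rw [← act_mul, MonoidAlgebra.single_mul_single, one_mul]
  have hone : ag 1 = 1 := by
    show act D s _ = _
    rw [← MonoidAlgebra.one_def, act_one]
  let agH : G →* Module.End k N := { toFun := ag, map_one' := hone, map_mul' := hmul }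
  haveI : Nontrivial N := by
    refine ⟨⟨psi D s hα hβ ((0, Pi.single 0 1) : KW k s), 0, fun h => ?_⟩⟩
    have h1 := congrArg (fun φ : N => φ.1 1) h
    simp only [psi_one] at h1
    have h2 := congrFun (congrArg Prod.snd h1) 0
    simp at h2
  haveI : CharP (Module.End k N) p :=
    charP_of_injective_algebraMap (algebraMap k (Module.End k N)).injective p
  have hT : (ag u - 1) ^ p ^ a = 0 := by
    rw [sub_pow_char_pow_of_commute (R := Module.End k N) (p := p) (h := Commute.one_right (ag u)), one_pow,
      show ag u ^ p ^ a = agH (u ^ p ^ a) from (map_pow agH u (p ^ a)).symm, hu, map_one, sub_self]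
  obtain ⟨m, π, hπc, hπr, hπs⟩ := exists_small_projections (ag u - 1) hT
  have hπR : ∀ j, ∀ r ∈ P, Commute (π j) (ag r) := by
    intro j r hr
    rw [hP] at hr
    have hm : r ∈ Submonoid.powers u := (mem_powers_iff_mem_zpowers).2 hr
    obtain ⟨n, rfl⟩ := hm
    show Commute (π j) (agH (u ^ n))
    rw [map_pow]
    refine Commute.pow_right ?_ n
    show Commute (π j) (ag u)
    have h := (hπc j).add_right (Commute.one_right (π j))
    rwa [show ag u - 1 + 1 = ag u from sub_add_cancel (ag u) 1] at h
  haveI : ∀ g, Fintype (G ⧸ D.R g) := D.Rfin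
  let Fm : G × Fin m → Module.End k N := fun q =>
    ∑ b : G ⧸ D.R q.1, ag b.out * (ag q.1 * π q.2) * ag b.out⁻¹
  have hFeq : ∀ g ∈ D.t, ∀ j h, Commute (Fm (g, j)) (ag h) := by
    intro g hg j h
    show Fm (g, j) * ag h = ag h * Fm (g, j)
    simp only [Fm, Finset.sum_mul, Finset.mul_sum]
    refine Eq.symm ?_
    refine Fintype.sum_equiv (MulAction.toPerm h) _ _ fun b => ?_
    set b' := MulAction.toPerm h b with hb'
    obtain ⟨r, hr⟩ : ∃ r : D.R g, b'.out = h * b.out * r := by
      have h1 : (b'.out : G ⧸ D.R g) = ((h * b.out : G) : G ⧸ D.R g) := by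
        rw [QuotientGroup.out_eq', hb']
        conv_lhs => rw [← QuotientGroup.out_eq' b]
        rfl
      exact ⟨⟨(h * b.out)⁻¹ * b'.out, QuotientGroup.eq.1 h1.symm⟩, by simp [mul_assoc]⟩
    have hcr : ag (r : G) * (ag g * π j) = ag g * π j * ag (r : G) := by
      rw [← mul_assoc, ← hmul, (D.comm g hg r r.2).eq, hmul, mul_assoc, mul_assoc,
        (hπR j r (D.R_le g hg r.2)).eq]
    have hh : ag ((h * b.out * (r : G))⁻¹) * ag h = ag (r : G)⁻¹ * ag b.out⁻¹ := by
      rw [← hmul, ← hmul]; congr 1; group
    have hr1 : ag (r : G) * ag (r : G)⁻¹ = 1 := by rw [← hmul, mul_inv_cancel, hone]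
    show ag h * (ag b.out * (ag g * π j) * ag b.out⁻¹) = ag b'.out * (ag g * π j) * ag b'.out⁻¹ * ag h
    rw [hr, mul_assoc _ (ag (h * b.out * (r : G))⁻¹), hh, hmul, hmul]
    calc ag h * (ag b.out * (ag g * π j) * ag b.out⁻¹)
        = ag h * ag b.out * ((ag g * π j) * (ag (r : G) * ag (r : G)⁻¹)) * ag b.out⁻¹ := by
          rw [hr1, mul_one]; simp only [mul_assoc]
      _ = ag h * ag b.out * ((ag g * π j * ag (r : G)) * ag (r : G)⁻¹) * ag b.out⁻¹ := by
          simp only [mul_assoc]
      _ = _ := by rw [← hcr]; simp only [mul_assoc]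
  have hsum : ∑ q ∈ D.t ×ˢ (Finset.univ : Finset (Fin m)), D.coe q.1 • Fm q = 1 := by
    rw [Finset.sum_product, ← act_e D s hα hβ, D.e_def, act_sum]
    refine Finset.sum_congr rfl fun g _ => ?_
    simp only []
    rw [← Finset.smul_sum, act_smul, act_sum]
    congr 1
    show ∑ x, ∑ b : G ⧸ D.R g, ag b.out * (ag g * π x) * ag b.out⁻¹ = _
    rw [Finset.sum_comm]
    refine Finset.sum_congr (Finset.ext fun b => by simp) fun b _ => ?_
    rw [← Finset.sum_mul, ← Finset.mul_sum, ← Finset.mul_sum, hπs, mul_one, ← hmul, ← hmul]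
  -- equivariant endomorphisms through the Kronecker space
  have hcomm : ∀ F : Module.End k N, (∀ h, Commute F (ag h)) → ∀ x, Commute F (act D s x) := by
    intro F hF x
    induction x using MonoidAlgebra.induction_linear with
    | zero =>
      rw [show act D (α := α) (β := β) s 0 = 0 by simpa using act_smul D (α := α) (β := β) s 0 0]
      exact Commute.zero_right F
    | single g c =>
      rw [show single g c = c • single g (1 : k) by rw [MonoidAlgebra.smul_single', mul_one],
        act_smul]
      exact (hF g).smul_right c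
    | add x y hx hy =>
      rw [show act D (α := α) (β := β) s (x + y) = act D s x + act D s y by
        refine LinearMap.ext fun φ => Subtype.ext (funext fun g => ?_)
        rw [act_apply, mul_add, map_add]; rfl]
      exact hx.add_right hy
  let ev1 : N →ₗ[k] KW k s := (LinearMap.proj 1).comp N.subtype
  have hev : ∀ φ : N, ev1 φ = φ.1 1 := fun _ => rfl
  let f : G × Fin m → Module.End k (KW k s) := fun q =>
    ev1.comp ((D.coe q.1 • Fm q).comp (psi D s hα hβ))
  have hFc : ∀ q ∈ D.t ×ˢ (Finset.univ : Finset (Fin m)), ∀ x,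
      Commute (D.coe q.1 • Fm q) (act D s x) := by
    rintro ⟨g, j⟩ hq
    exact hcomm _ fun h => (hFeq g (Finset.mem_product.1 hq).1 j h).smul_left _
  have hev_l : ∀ l, D.i * l * D.i = l → ∀ φ : N, ev1 (act D s l φ) = rhoW D α β s l (ev1 φ) := by
    intro l hl φ
    show ext s φ.1 (single 1 1 * l) = rhoW D α β s l (φ.1 1)
    have h1 := φ.2 l hl 1
    rw [← MonoidAlgebra.one_def, mul_one] at h1
    rw [← MonoidAlgebra.one_def, one_mul, h1]
  have hfl : ∀ q ∈ D.t ×ˢ (Finset.univ : Finset (Fin m)), ∀ l, D.i * l * D.i = l →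
      Commute (f q) (rhoW D α β s l) := by
    intro q hq l hl
    refine LinearMap.ext fun w => ?_
    show ev1 ((D.coe q.1 • Fm q) (psi D s hα hβ (rhoW D α β s l w))) =
      rhoW D α β s l (ev1 ((D.coe q.1 • Fm q) (psi D s hα hβ w)))
    rw [← act_psi D s hα hβ hl, ← Module.End.mul_apply, (hFc q hq l).eq, Module.End.mul_apply,
      hev_l l hl]
  have hrx : rhoW D α β s lx = liftMap (kX k s) := by
    rw [rhoW_apply, hx.1, hx.2.1, hx.2.2, zero_smul, zero_smul, one_smul, zero_add, add_zero]
  have hry : rhoW D α β s ly = liftMap (kY k s) := by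
    rw [rhoW_apply, hy.1, hy.2.1, hy.2.2, zero_smul, zero_smul, one_smul, zero_add, zero_add]
  obtain ⟨q, hq, hinj⟩ := exists_injective_of_sum (s := s) (by omega) (D.t ×ˢ Finset.univ) f
    (fun q hq => hrx ▸ hfl q hq lx hlx) (fun q hq => hry ▸ hfl q hq ly hly) (by
      refine LinearMap.ext fun w => ?_
      rw [LinearMap.sum_apply]
      show ∑ q ∈ _, ev1 ((D.coe q.1 • Fm q) (psi D s hα hβ w)) = w
      rw [← map_sum, ← LinearMap.sum_apply, hsum, Module.End.one_apply, hev, psi_one])
  set F := D.coe q.1 • Fm q
  have hFinj : Function.Injective F := by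
    refine (injective_iff_map_eq_zero _).2 fun φ hφ => Subtype.ext (funext fun g => ?_)
    apply (injective_iff_map_eq_zero _).1 hinj
    set φ' := ag g φ with hφ'
    have h1 : φ.1 g = ev1 φ' := by
      show _ = ext s φ.1 (single 1 1 * single g 1)
      rw [MonoidAlgebra.single_mul_single, one_mul, one_mul, ext_single, one_smul]
    have hFφ' : F φ' = 0 := by
      rw [hφ', ← Module.End.mul_apply, (hFc q hq (single g 1)).eq, Module.End.mul_apply, hφ,
        map_zero]
    rw [h1]
    show ev1 (F (psi D s hα hβ (φ'.1 1))) = 0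
    rw [← act_i_apply D s hα hβ φ', ← Module.End.mul_apply, (hFc q hq D.i).eq, Module.End.mul_apply,
      hFφ', map_zero, map_zero]
  -- dimensions
  have h1 : finrank k (KW k s) ≤ finrank k N :=
    LinearMap.finrank_le_finrank_of_injective (f := psi D s hα hβ) fun w w' h => by
      exact (psi_one D s hα hβ w).symm.trans
        ((congrArg (fun φ : N => φ.1 1) h).trans (psi_one D s hα hβ w'))
  have h2 : finrank k N = finrank k (LinearMap.range F) :=
    (LinearMap.finrank_range_of_inj hFinj).symm
  have hrange_mul : ∀ X Y : Module.End k N,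
      finrank k (LinearMap.range (X * Y)) ≤ finrank k (LinearMap.range X) ∧
      finrank k (LinearMap.range (X * Y)) ≤ finrank k (LinearMap.range Y) := by
    intro X Y
    refine ⟨Submodule.finrank_mono (LinearMap.range_comp_le_range Y X), ?_⟩
    rw [show LinearMap.range (X * Y) = (LinearMap.range Y).map X from LinearMap.range_comp Y X]
    exact Submodule.finrank_map_le _ _
  have h3 : finrank k (LinearMap.range F) ≤ Fintype.card G * p ^ a := by
    have hle : LinearMap.range F ≤ ⨆ b ∈ (Finset.univ : Finset (G ⧸ D.R q.1)),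
        LinearMap.range (ag b.out * (ag q.1 * π q.2) * ag b.out⁻¹) := by
      rintro _ ⟨φ, rfl⟩
      show D.coe q.1 • Fm q φ ∈ _
      refine Submodule.smul_mem _ _ ?_
      simp only [Fm, LinearMap.sum_apply]
      refine Submodule.sum_mem _ fun b hb => ?_
      exact Submodule.mem_iSup_of_mem b (Submodule.mem_iSup_of_mem hb ⟨φ, rfl⟩)
    refine (Submodule.finrank_mono hle).trans ((finrank_biSup_le' _ _).trans
      ((Finset.sum_le_card_nsmul _ _ (p ^ a) fun b _ => ?_).trans ?_))
    · exact (hrange_mul _ _).1.trans ((hrange_mul _ _).2.trans ((hrange_mul _ _).2.trans (hπr _)))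
    · rw [smul_eq_mul, Finset.card_univ]
      refine Nat.mul_le_mul_right _ ?_
      exact Fintype.card_le_of_surjective (QuotientGroup.mk : G → G ⧸ D.R q.1)
        QuotientGroup.mk_surjective
  have h4 : finrank k (KW k s) = s + (s + 1) := by
    rw [Module.finrank_prod, Module.finrank_pi, Module.finrank_pi, Fintype.card_fin,
      Fintype.card_fin]
  omega

end Cfsg.Agent.Lib.CyclicCorner
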