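import Cfsg.Agent.Lib.CyclicCorner.Lift
import Cfsg.Agent.Lib.BlockHeights.RankOne
import Cfsg.Agent.Lib.Blocks.Sections
import Cfsg.Agent.Lib.Characters.Convolution

/-!
# A block of rank one with a commutative corner has all degree multipliers equal to one
-/

set_option autoImplicit false
set_option linter.unusedSectionVars false
set_option linter.style.haveILetI false

namespace Cfsg.Agent.Lib.CyclicCorner

open Cfsg Cfsg.Agent.Lib.Blocks Cfsg.Agent.Lib.BrauerStar Cfsg.Agent.Lib.Characters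

universe u

variable {G : Type u} [Group G] [Fintype G] {M : Ideal AlgInt} [hMp : M.IsPrime] {p : ℕ}

theorem ev_mul_eq (χ : G → ℂ) (a b : RG M G) :
    ev χ (a * b) = ∑ x, coef a x * ∑ y, coef b y * χ (x * y) := by
  simp only [ev, coef_mul, conv, Finset.sum_mul, Finset.mul_sum]
  rw [Finset.sum_comm]
  refine Finset.sum_congr rfl fun x _ => ?_
  exact (Fintype.sum_equiv (Equiv.mulLeft x) _ _ fun y => by simp [mul_assoc]).symm

/-- The average of `χ (a g b g⁻¹)`. -/
theorem sum_ev_mul_cj (χ : IrrCharacter G) (a b : RG M G) :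
    ∑ g : G, ev (χ : G → ℂ) (a * cj g b) =
      (Nat.card G : ℂ) / (χ : G → ℂ) 1 * (ev (χ : G → ℂ) a * ev (χ : G → ℂ) b) := by
  have h1 : ∀ g : G, ev (χ : G → ℂ) (a * cj g b) =
      ∑ x, ∑ y, coef a x * coef b y * (χ : G → ℂ) (x * (g * y * g⁻¹)) := fun g => by
    rw [ev_mul_eq]
    refine Finset.sum_congr rfl fun x _ => ?_
    rw [Finset.mul_sum]
    refine (Fintype.sum_equiv (MulAut.conj g).toEquiv _ _ fun y => ?_).symm
    show _ = coef a x * (coef (cj g b) (g * y * g⁻¹) * (χ : G → ℂ) (x * (g * y * g⁻¹)))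
    rw [coef_cj, show g⁻¹ * (g * y * g⁻¹) * g = y by group, mul_assoc]
  rw [Finset.sum_congr rfl fun g _ => h1 g, Finset.sum_comm]
  simp only [ev, Finset.sum_mul]
  rw [Finset.mul_sum]
  refine Finset.sum_congr rfl fun x _ => ?_
  rw [Finset.sum_comm, Finset.mul_sum, Finset.mul_sum]
  refine Finset.sum_congr rfl fun y _ => ?_
  rw [← Finset.mul_sum, IsIrrCharacter.sum_conj_translate χ.2]
  ring

/-- The sum of `χ (h⁻¹ a) χ (h b)`. -/
theorem sum_ev_ev (χ : IrrCharacter G) (a b : RG M G) :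
    ∑ h : G, ev (χ : G → ℂ) (el h⁻¹ * a) * ev (χ : G → ℂ) (el h * b) =
      (Nat.card G : ℂ) / (χ : G → ℂ) 1 * ev (χ : G → ℂ) (a * b) := by
  rw [ev_mul_eq, Finset.mul_sum]
  simp only [ev_el_mul, Finset.sum_mul]
  rw [Finset.sum_comm]
  refine Finset.sum_congr rfl fun x _ => ?_
  simp only [Finset.mul_sum]
  rw [Finset.sum_comm]
  refine Finset.sum_congr rfl fun y _ => ?_
  have h1 : ∑ h : G, (χ : G → ℂ) (h⁻¹ * x) * (χ : G → ℂ) (h * y) =
      (Nat.card G : ℂ) / (χ : G → ℂ) 1 * (χ : G → ℂ) (x * y) := by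
    have h2 := IsIrrCharacter.sum_mul_convolution χ.2 χ.2 (x * y)
    rw [if_pos rfl] at h2
    rw [← h2]
    refine Fintype.sum_equiv (Equiv.mulRight y) _ _ fun h => ?_
    rw [Equiv.coe_mulRight, mul_comm,
      show (h * y)⁻¹ * (x * y) = y⁻¹ * (h⁻¹ * x) * y⁻¹⁻¹ by group, irr_isClassFunction χ]
  rw [Finset.sum_congr rfl (g := fun h => coef a x * coef b y *
      ((χ : G → ℂ) (h⁻¹ * x) * (χ : G → ℂ) (h * y))) fun h _ => by ring,
    ← Finset.mul_sum, h1]
  ring

/-- **The trace of the idempotent of a commutative corner is its cube.** -/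
theorem ev_cube (χ : IrrCharacter G) {i : RG M G} (hii : i * i = i)
    (hcomm : ∀ x y, sand i x * sand i y = sand i y * sand i x) :
    ev (χ : G → ℂ) i ^ 3 = ev (χ : G → ℂ) i := by
  set t := ev (χ : G → ℂ) i with ht
  set c := (Nat.card G : ℂ) / (χ : G → ℂ) 1 with hc
  have hcne : c ≠ 0 := div_ne_zero natCard_ne_zero_complex (IsIrrCharacter.apply_one_ne_zero χ.2)
  have hclass := irr_isClassFunction χ
  set a : G → RG M G := fun g => sand i (el g) with ha
  have hai : ∀ g, a g * i = a g := fun g => by rw [ha]; simp only [sand_apply, mul_assoc, hii]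
  have hia : ∀ g, i * a g = a g := fun g => by
    rw [ha]; simp only [sand_apply, ← mul_assoc, hii]
  have hev : ∀ g, ev (χ : G → ℂ) (a g) = ev (χ : G → ℂ) (el g * i) := fun g => by
    rw [ha]; simp only [sand_apply]
    rw [ev_mul_comm hclass, ← mul_assoc, hii, ev_mul_comm hclass]
  have hone : ∀ Z : RG M G, i * Z = Z → Z * i = Z →
      ∑ g : G, ev (χ : G → ℂ) (Z * (a g * a g⁻¹)) = c * (ev (χ : G → ℂ) Z * t) := by
    intro Z hZl hZr
    rw [← sum_ev_mul_cj χ Z i]
    refine Finset.sum_congr rfl fun g _ => ?_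
    rw [cj_apply, ha]
    simp only [sand_apply]
    rw [show Z * (i * el g * i * (i * el g⁻¹ * i)) = Z * i * el g * (i * i) * el g⁻¹ * i by
      simp only [mul_assoc], hZr, hii, ev_mul_comm hclass,
      show i * (Z * el g * i * el g⁻¹) = i * Z * (el g * i * el g⁻¹) by simp only [mul_assoc], hZl]
  have hZ : ∀ g, i * (a g * a g⁻¹) = a g * a g⁻¹ ∧ a g * a g⁻¹ * i = a g * a g⁻¹ := fun g =>
    ⟨by rw [← mul_assoc, hia], by rw [mul_assoc, hai]⟩
  have hR : ∑ g : G, ∑ h : G, ev (χ : G → ℂ) (a g * a h * (a g⁻¹ * a h⁻¹)) = c * (c * (t * t) * t) := by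
    have e : ∀ g h, a g * a h * (a g⁻¹ * a h⁻¹) = a g * a g⁻¹ * (a h * a h⁻¹) := fun g h => by
      have hc' : a h * a g⁻¹ = a g⁻¹ * a h := hcomm _ _
      rw [mul_assoc, ← mul_assoc (a h), hc', mul_assoc, ← mul_assoc (a g) (a g⁻¹)]
    simp only [e]
    rw [Finset.sum_congr rfl fun g _ => hone _ (hZ g).1 (hZ g).2, ← Finset.mul_sum, ← Finset.sum_mul]
    congr 2
    rw [← hone i hii hii]
    exact Finset.sum_congr rfl fun g _ => by rw [(hZ g).1]
  have hL : ∑ g : G, ∑ h : G, ev (χ : G → ℂ) (a g * a h * (a g⁻¹ * a h⁻¹)) = c * (c * t) := by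
    rw [Finset.sum_comm]
    have e : ∀ g h, ev (χ : G → ℂ) (a g * a h * (a g⁻¹ * a h⁻¹)) =
        ev (χ : G → ℂ) (a h⁻¹ * cj g (a h)) := fun g h => by
      have hag : ∀ g : G, a g = i * el g * i := fun g => rfl
      rw [hag g, hag g⁻¹,
        show i * el g * i * a h * (i * el g⁻¹ * i * a h⁻¹) =
          i * el g * (i * a h * i) * el g⁻¹ * (i * a h⁻¹) by simp only [mul_assoc],
        hia, hai, hia, show i * el g * a h * el g⁻¹ * a h⁻¹ = i * (el g * a h * el g⁻¹) * a h⁻¹ by
          simp only [mul_assoc], ev_mul_comm hclass, ← mul_assoc, hai, ← cj_apply]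
    simp only [e]
    rw [Finset.sum_congr rfl fun h _ => sum_ev_mul_cj χ (a h⁻¹) (a h), ← Finset.mul_sum]
    congr 1
    rw [ht, show ev (χ : G → ℂ) i = ev (χ : G → ℂ) (i * i) by rw [hii], ← sum_ev_ev]
    exact Finset.sum_congr rfl fun h _ => by rw [hev, hev]
  have h := hR.symm.trans hL
  exact mul_left_cancel₀ hcne (mul_left_cancel₀ hcne (by linear_combination h))

/-- The function summing the coefficients over the conjugates of an element. -/
noncomputable def phiSum (i : RG M G) (g : G) : ℂ := ∑ x : G, coef i (x⁻¹ * g * x)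

theorem isClassFunction_phiSum (i : RG M G) : IsClassFunction G (phiSum i) := fun g y => by
  refine Fintype.sum_equiv (Equiv.mulLeft y⁻¹) _ _ fun x => ?_
  show coef i (x⁻¹ * (y * g * y⁻¹) * x) = coef i ((y⁻¹ * x)⁻¹ * g * (y⁻¹ * x))
  congr 1
  group

theorem sum_phiSum_mul (i : RG M G) {χ : G → ℂ} (hχ : IsClassFunction G χ) :
    ∑ g, phiSum i g * χ g = (Nat.card G : ℂ) * ev χ i := by
  simp only [phiSum, Finset.sum_mul]
  rw [Finset.sum_comm, Nat.card_eq_fintype_card, ← nsmul_eq_mul, ← Finset.card_univ,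
    ← Finset.sum_const]
  refine Finset.sum_congr rfl fun x _ => ?_
  refine Fintype.sum_equiv (MulAut.conj x⁻¹).toEquiv _ _ fun g => ?_
  show coef i (x⁻¹ * g * x) * χ g = coef i (x⁻¹ * g * x⁻¹⁻¹) * χ (x⁻¹ * g * x⁻¹⁻¹)
  rw [hχ, inv_inv]

/-- The translation matrix of an element. -/
noncomputable def transMat (i : RG M G) : Matrix G G (locSubring M) :=
  Matrix.of fun a b => ⟨coef i (a⁻¹ * b), memLocalRing_coef i _⟩

theorem transMat_mul_self {i : RG M G} (hii : i * i = i) : transMat i * transMat i = transMat i := by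
  classical
  refine Matrix.ext fun a b => Subtype.ext ?_
  rw [Matrix.mul_apply, AddSubmonoidClass.coe_finsetSum]
  show ∑ c, coef i (a⁻¹ * c) * coef i (c⁻¹ * b) = coef i (a⁻¹ * b)
  conv_rhs => rw [← hii, coef_mul, conv]
  refine Fintype.sum_equiv (Equiv.mulLeft a⁻¹) _ _ fun c => ?_
  simp [mul_assoc]

/-- **It vanishes at singular elements.** -/
theorem phiSum_eq_zero (hM : IsPModular p M) {i : RG M G} (hii : i * i = i) {g : G}
    (hg : ¬ IsPRegular p g) : phiSum i g = 0 := by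
  classical
  haveI := Fact.mk hM.1
  haveI := resField_charP (M := M) hM
  obtain ⟨x, hx⟩ := exists_isPPart hM.1 g
  obtain ⟨r, hxr, hcx, hxk, hr⟩ := hx
  have hx1 : x ≠ 1 := fun h => hg (by rw [IsPRegular, ← hxr, h, one_mul]; exact hr)
  obtain ⟨n, hn⟩ := hxk
  set m := orderOf r with hm
  let u : Equiv.Perm G := Equiv.mulLeft x
  let h' : Equiv.Perm G := Equiv.mulLeft r
  have hmul : ∀ (a : G) (n : ℕ), (Equiv.mulLeft a) ^ n = Equiv.mulLeft (a ^ n) := fun a n => by
    induction n with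
    | zero => ext t; simp
    | succ n ih => ext t; simp [pow_succ, ih, mul_assoc]
  have hu : u ^ p ^ n = 1 := by
    rw [hmul, ← hn, pow_orderOf_eq_one]; ext t; simp
  have hh' : h' ^ m = 1 := by
    rw [hmul, hm, pow_orderOf_eq_one]; ext t; simp
  have hcomm : Commute u h' := by
    refine Equiv.ext fun t => ?_
    show x * (r * t) = r * (x * t)
    rw [← mul_assoc, ← mul_assoc, hcx.eq]
  let ζ : locSubring M := ⟨Complex.exp (2 * Real.pi * Complex.I / m), memLocalRing_of_isIntegral'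
    ((Complex.isPrimitiveRoot_exp m (orderOf_pos r).ne').isIntegral (orderOf_pos r))⟩
  have hζ : IsPrimitiveRoot ζ m :=
    IsPrimitiveRoot.of_map_of_injective (f := (locSubring M).subtype)
      (Complex.isPrimitiveRoot_exp m (orderOf_pos r).ne') Subtype.val_injective
  have key := sum_apply_perm_mul_eq_zero (R := locSubring M) p u h' n m (orderOf_pos r) hr hu hh'
    hcomm ζ hζ (transMat i) (transMat_mul_self hii)
    (fun a b => Subtype.ext (show coef i ((x * a)⁻¹ * (x * b)) = coef i (a⁻¹ * b) by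
      congr 1; group))
    (fun a b => Subtype.ext (show coef i ((r * a)⁻¹ * (r * b)) = coef i (a⁻¹ * b) by
      congr 1; group))
    (fun a b hab _ => absurd (mul_eq_right.1 hab) hx1)
  have key' := congrArg (Subtype.val : locSubring M → ℂ) key
  rw [AddSubmonoidClass.coe_finsetSum, ZeroMemClass.coe_zero] at key'
  rw [phiSum, ← key']
  refine Finset.sum_congr rfl fun a _ => ?_
  show coef i (a⁻¹ * g * a) = coef i (a⁻¹ * (r * (x * a)))
  congr 1
  rw [← hxr, hcx.eq]
  group

/-- A nonzero idempotent has a nonzero coefficient at the identity. -/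
theorem phiSum_one_ne_zero {i : RG M G} (hii : i * i = i) (hne : i ≠ 0) : phiSum i (1 : G) ≠ 0 := by
  classical
  intro h
  let W : Matrix G G ℂ := (transMat i).map (locSubring M).subtype
  have hWW : W * W = W := by
    show (transMat i).map _ * (transMat i).map _ = _
    rw [← Matrix.map_mul, transMat_mul_self hii]
  have hidem : W.toLin' * W.toLin' = W.toLin' := by
    rw [Module.End.mul_eq_comp, ← Matrix.toLin'_mul, hWW]
  have ht := LinearMap.IsProj.trace (LinearMap.IsIdempotentElem.isProj_range W.toLin' hidem)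
  rw [Matrix.trace_toLin'_eq] at ht
  have htr : W.trace = phiSum i 1 := by
    simp [Matrix.trace, W, transMat, phiSum]
  rw [htr, h, eq_comm, Nat.cast_eq_zero, Submodule.finrank_eq_zero, LinearMap.range_eq_bot,
    LinearEquiv.map_eq_zero_iff] at ht
  refine hne (coef_injective (funext fun g => ?_))
  have := congrFun (congrFun ht 1) g
  simpa [W, transMat, coef_zero] using this

variable {B : Set (IrrCharacter G)} {P : Subgroup G}

theorem ev_eq_zero_of_not_mem (hM : IsPModular p M) (hB : IsPBlock M B) {i : RG M G}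
    (hiB : i * eBlock hM hB = i) {χ : IrrCharacter G} (hχ : χ ∉ B) : ev (χ : G → ℂ) i = 0 := by
  rw [← hiB, ev_mul_eq]
  refine Finset.sum_eq_zero fun x _ => mul_eq_zero_of_right _ ?_
  simp only [coef_eBlock]
  have h := sum_mul_char_mul χ.2 (isClassFunction_blockCoeff B) x
  rw [omega_blockCoeff, if_neg hχ, zero_mul] at h
  rw [← h]
  exact Finset.sum_congr rfl fun y _ => by rw [classFunction_mul_comm (irr_isClassFunction χ)]

/-- **A block of rank one with cyclic defect group has as many characters as that group has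
elements.** -/
theorem card_eq_of_rank_one (hM : IsPModular p M) (hB : IsPBlock M B)
    (hPD : IsDefectGroup p M B P) [IsCyclic P] (hl : blockRank p B = 1) :
    Nat.card B = Nat.card P := by
  classical
  haveI := Fintype.ofFinite (IrrCharacter G)
  obtain ⟨φ, d, ⟨n, hn⟩, hd, hsq⟩ := BlockHeights.rank_one_data hM hB hPD hl
  -- a primitive idempotent of the block
  obtain ⟨T, hT⟩ := exists_isDecomp (S := (⊤ : Subalgebra (locSubring M) (RG M G)))
    smul_eq_zero' (Algebra.mem_top (x := eBlock hM hB)) (eBlock_idem hM hB)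
  have hne : eBlock hM hB ≠ 0 := fun h => by
    obtain ⟨χ, hχ⟩ := IsPBlock.nonempty hB
    have h1 := ev_mul_eBlock hM hB hχ (1 : RG M G)
    rw [h, mul_zero, ev_zero, ← el_one, ev_el] at h1
    exact IsIrrCharacter.apply_one_ne_zero χ.2 h1.symm
  obtain ⟨i, hiT⟩ : T.Nonempty := Finset.nonempty_of_ne_empty fun h => hne (by
    rw [← hT.sum, h, Finset.sum_empty])
  have hi := hT.prim i hiT
  have hiB : i * eBlock hM hB = i := hT.mul_right hiT
  -- its traces
  obtain ⟨c, hc⟩ : ∃ c, c = (Nat.card G : ℂ)⁻¹ * ∑ g, phiSum i g * φ g := ⟨_, rfl⟩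
  have ht : ∀ χ ∈ B, ev (χ : G → ℂ) i = (d χ : ℂ) * c := by
    intro χ hχ
    rw [hc, mul_left_comm, eq_inv_mul_iff_mul_eq₀ natCard_ne_zero_complex,
      ← sum_phiSum_mul i (irr_isClassFunction χ), Finset.mul_sum]
    refine Finset.sum_congr rfl fun g _ => ?_
    by_cases hg : IsPRegular p g
    · rw [hd χ hχ g hg]; ring
    · rw [phiSum_eq_zero hM hi.idem hg]; ring
  have hcne : c ≠ 0 := by
    intro h0
    apply phiSum_one_ne_zero hi.idem hi.ne_zero
    have hcl : IsClassFunction G (fun g => phiSum i g⁻¹) := fun g y => by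
      show phiSum i (y * g * y⁻¹)⁻¹ = phiSum i g⁻¹
      rw [← isClassFunction_phiSum i g⁻¹ y]
      congr 1
      group
    have h1 := congrFun (eq_sum_classInner hcl) 1
    simp only [inv_one] at h1
    rw [h1, Finset.sum_apply]
    refine Finset.sum_eq_zero fun χ _ => ?_
    have h2 : classInner (fun g => phiSum i g⁻¹) (χ : G → ℂ) = ev (χ : G → ℂ) i := by
      rw [classInner_eq_sum_inv (irr_isCharacter χ)]
      rw [Fintype.sum_equiv (Equiv.inv G) (fun g => phiSum i g⁻¹ * (χ : G → ℂ) g⁻¹)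
        (fun g => phiSum i g * (χ : G → ℂ) g) (fun g => rfl), sum_phiSum_mul i (irr_isClassFunction χ),
        ← mul_assoc, inv_mul_cancel₀ natCard_ne_zero_complex, one_mul]
    rw [Pi.smul_apply, h2]
    by_cases hχ : χ ∈ B
    · rw [ht χ hχ, h0, mul_zero, zero_smul]
    · rw [ev_eq_zero_of_not_mem hM hB hiB hχ, zero_smul]
  have hd0 : ∀ χ ∈ B, d χ ≠ 0 := fun χ hχ h => by
    have := hd χ hχ 1 (BlockHeights.isPRegular_one hM.1)
    rw [h, Nat.cast_zero, zero_mul] at this
    exact IsIrrCharacter.apply_one_ne_zero χ.2 this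
  -- the multipliers agree
  have hdc : ∀ χ ∈ B, ((d χ : ℂ) * c) ^ 2 = 1 := fun χ hχ => by
    have h := ev_cube χ hi.idem (commute_corner hM hB hPD hi hiB)
    rw [ht χ hχ] at h
    refine mul_left_cancel₀ (mul_ne_zero (Nat.cast_ne_zero.2 (hd0 χ hχ)) hcne) ?_
    rw [mul_one]
    linear_combination h
  obtain ⟨χ₀, hχ₀⟩ := IsPBlock.nonempty hB
  have hdd : ∀ χ ∈ B, d χ = d χ₀ := fun χ hχ => by
    have h : ((d χ : ℂ) * c) ^ 2 = ((d χ₀ : ℂ) * c) ^ 2 := (hdc χ hχ).trans (hdc χ₀ hχ₀).symm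
    rw [mul_pow, mul_pow] at h
    have h2 : ((d χ ^ 2 : ℕ) : ℂ) = ((d χ₀ ^ 2 : ℕ) : ℂ) := by
      push_cast
      exact mul_right_cancel₀ (pow_ne_zero _ hcne) h
    exact Nat.pow_left_injective two_ne_zero (Nat.cast_injective h2)
  have hd1 : d χ₀ = 1 := by
    have h1 := hn 1 (BlockHeights.isPRegular_one hM.1)
    rw [finsum_mem_eq_finite_toFinset_sum _ (Set.toFinite B)] at h1
    set s := (Set.toFinite B).toFinset
    have hφ0 : φ 1 ≠ 0 := fun h => by
      have := hd χ₀ hχ₀ 1 (BlockHeights.isPRegular_one hM.1)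
      rw [h, mul_zero] at this
      exact IsIrrCharacter.apply_one_ne_zero χ₀.2 this
    rw [Finset.sum_congr rfl (g := fun ψ => (n ψ : ℂ) * ((d χ₀ : ℂ) * φ 1)) fun ψ hψ => by
      rw [hd ψ ((Set.Finite.mem_toFinset _).1 hψ) 1 (BlockHeights.isPRegular_one hM.1),
        hdd ψ ((Set.Finite.mem_toFinset _).1 hψ)], ← Finset.sum_mul, ← mul_assoc] at h1
    have h2 : (∑ ψ ∈ s, (n ψ : ℂ)) * (d χ₀ : ℂ) = 1 :=
      mul_right_cancel₀ hφ0 (by rw [one_mul, ← h1])
    have h3 : (∑ ψ ∈ s, n ψ) * (d χ₀ : ℤ) = 1 := by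
      have : (((∑ ψ ∈ s, n ψ) * (d χ₀ : ℤ) : ℤ) : ℂ) = ((1 : ℤ) : ℂ) := by
        push_cast; exact h2
      exact_mod_cast this
    exact_mod_cast Int.eq_one_of_mul_eq_one_left (Int.natCast_nonneg _) h3
  rw [← hsq, finsum_mem_eq_finite_toFinset_sum _ (Set.toFinite B),
    Finset.sum_congr rfl fun χ hχ => by
      rw [hdd χ ((Set.Finite.mem_toFinset _).1 hχ), hd1, one_pow],
    Finset.sum_const, smul_eq_mul, mul_one, Nat.card_eq_card_finite_toFinset (Set.toFinite B)]

end Cfsg.Agent.Lib.CyclicCorner
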