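import Cfsg.Agent.Lib.CyclicCorner.NilDecomp
import Mathlib.LinearAlgebra.Pi

/-!
# The Kronecker module has scalar endomorphisms modulo a square zero part
-/

set_option autoImplicit false
set_option linter.unusedSectionVars false

namespace Cfsg.Agent.Lib.CyclicCorner

variable {k : Type*} [Field k]

/-- The space of the Kronecker module. -/
abbrev KW (k : Type*) (s : ℕ) : Type _ := (Fin s → k) × (Fin (s + 1) → k)

/-- The two maps of the Kronecker module. -/
def kX (k : Type*) [Field k] (s : ℕ) : (Fin s → k) →ₗ[k] (Fin (s + 1) → k) where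
  toFun v := Fin.snoc v 0
  map_add' v w := by
    funext m
    induction m using Fin.lastCases with
    | last => simp
    | cast j => simp
  map_smul' c v := by
    funext m
    induction m using Fin.lastCases with
    | last => simp
    | cast j => simp

/-- The shifted map of the Kronecker module. -/
def kY (k : Type*) [Field k] (s : ℕ) : (Fin s → k) →ₗ[k] (Fin (s + 1) → k) where
  toFun v := Fin.cons 0 v
  map_add' v w := by
    funext m
    induction m using Fin.cases with
    | zero => simp
    | succ j => simp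
  map_smul' c v := by
    funext m
    induction m using Fin.cases with
    | zero => simp
    | succ j => simp

theorem kX_castSucc {s : ℕ} (v : Fin s → k) (j : Fin s) : kX k s v j.castSucc = v j := by
  simp [kX]

theorem kX_last {s : ℕ} (v : Fin s → k) : kX k s v (Fin.last s) = 0 := by simp [kX]

theorem kY_succ {s : ℕ} (v : Fin s → k) (j : Fin s) : kY k s v j.succ = v j := by simp [kY]

theorem kY_zero {s : ℕ} (v : Fin s → k) : kY k s v 0 = 0 := by simp [kY]

/-- A map on `W` through a map `V0 → V1`. -/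
def liftMap {s : ℕ} (h : (Fin s → k) →ₗ[k] (Fin (s + 1) → k)) : Module.End k (KW k s) :=
  (LinearMap.inr k _ _).comp (h.comp (LinearMap.fst k _ _))

theorem liftMap_apply {s : ℕ} (h : (Fin s → k) →ₗ[k] (Fin (s + 1) → k)) (x : KW k s) :
    liftMap h x = (0, h x.1) := rfl

theorem end_of_commute {s : ℕ} (hs : 0 < s) (f : Module.End k (KW k s))
    (hX : Commute f (liftMap (kX k s))) (hY : Commute f (liftMap (kY k s))) :
    ∃ c : k, (∀ w, (f (0, w)) = (0, c • w)) ∧ ∀ v, (f (v, 0)).1 = c • v := by
  classical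
  have hx : ∀ v w, f (0, kX k s v) = (0, kX k s (f (v, w)).1) := fun v w =>
    LinearMap.congr_fun hX.eq (v, w)
  have hy : ∀ v w, f (0, kY k s v) = (0, kY k s (f (v, w)).1) := fun v w =>
    LinearMap.congr_fun hY.eq (v, w)
  set a : Fin s → Fin s → k := fun j m => (f (Pi.single j 1, 0)).1 m with ha
  have hXe : ∀ j : Fin s, kX k s (Pi.single j 1) = Pi.single j.castSucc 1 := fun j => by
    funext m
    induction m using Fin.lastCases with
    | last => rw [kX_last, Pi.single_eq_of_ne (Fin.castSucc_lt_last j).ne']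
    | cast i => rw [kX_castSucc, Pi.single_apply, Pi.single_apply]; simp
  have hYe : ∀ j : Fin s, kY k s (Pi.single j 1) = Pi.single j.succ 1 := fun j => by
    funext m
    induction m using Fin.cases with
    | zero => rw [kY_zero, Pi.single_eq_of_ne (Fin.succ_ne_zero j).symm]
    | succ i => rw [kY_succ, Pi.single_apply, Pi.single_apply]; simp
  have hA : ∀ j, f (0, Pi.single j.castSucc 1) = (0, kX k s (a j)) := fun j => by
    rw [← hXe, hx _ 0]
  have hB : ∀ j, f (0, Pi.single j.succ 1) = (0, kY k s (a j)) := fun j => by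
    rw [← hYe, hy _ 0]
  -- neighbouring columns
  have hrel : ∀ (j : ℕ) (hj : j + 1 < s),
      kX k s (a ⟨j + 1, hj⟩) = kY k s (a ⟨j, by omega⟩) := fun j hj => by
    have h1 := hA ⟨j + 1, hj⟩
    have h2 := hB ⟨j, by omega⟩
    have e : (⟨j + 1, hj⟩ : Fin s).castSucc = (⟨j, by omega⟩ : Fin s).succ := Fin.ext rfl
    rw [e, h2] at h1
    exact ((Prod.mk.inj h1).2).symm
  have hzero : ∀ (j : ℕ) (hj : j + 1 < s), a ⟨j + 1, hj⟩ ⟨0, hs⟩ = 0 := fun j hj => by
    have h := congrFun (hrel j hj) ⟨0, by omega⟩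
    rw [show (⟨0, by omega⟩ : Fin (s + 1)) = (⟨0, hs⟩ : Fin s).castSucc from Fin.ext rfl,
      kX_castSucc, show (⟨0, hs⟩ : Fin s).castSucc = 0 from Fin.ext rfl, kY_zero] at h
    exact h
  have hshift : ∀ (j : ℕ) (hj : j + 1 < s) (m : ℕ) (hm : m + 1 < s),
      a ⟨j + 1, hj⟩ ⟨m + 1, hm⟩ = a ⟨j, by omega⟩ ⟨m, by omega⟩ := fun j hj m hm => by
    have h := congrFun (hrel j hj) ⟨m + 1, by omega⟩
    rw [show (⟨m + 1, by omega⟩ : Fin (s + 1)) = (⟨m + 1, hm⟩ : Fin s).castSucc from Fin.ext rfl,
      kX_castSucc, show (⟨m + 1, hm⟩ : Fin s).castSucc = (⟨m, by omega⟩ : Fin s).succ from Fin.ext rfl,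
      kY_succ] at h
    exact h
  have htop : ∀ (j : ℕ) (hj : j + 1 < s), a ⟨j, by omega⟩ ⟨s - 1, by omega⟩ = 0 := fun j hj => by
    have h := congrFun (hrel j hj) (Fin.last s)
    rw [kX_last, show Fin.last s = (⟨s - 1, by omega⟩ : Fin s).succ from Fin.ext (by simp; omega),
      kY_succ] at h
    exact h.symm
  -- the matrix is scalar
  set c := a ⟨0, hs⟩ ⟨0, hs⟩ with hc
  have hdown : ∀ (d j m : ℕ) (hj : j + d < s) (hm : m + d < s),
      a ⟨j + d, hj⟩ ⟨m + d, hm⟩ = a ⟨j, by omega⟩ ⟨m, by omega⟩ := by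
    intro d
    induction d with
    | zero => intros; rfl
    | succ d ih =>
      intro j m hj hm
      exact (hshift (j + d) hj (m + d) hm).trans (ih j m (by omega) (by omega))
  have hdiag : ∀ (j m : Fin s), a j m = if m = j then c else 0 := by
    intro ⟨j, hj⟩ ⟨m, hm⟩
    rcases lt_trichotomy m j with h | rfl | h
    · rw [if_neg (fun e => by simp at e; omega)]
      obtain ⟨d, rfl⟩ := Nat.exists_eq_add_of_lt h
      have h1 := hdown m (d + 1) 0 (by omega) (by omega)
      simp only [Nat.zero_add] at h1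
      rw [show (⟨m + d + 1, hj⟩ : Fin s) = ⟨d + 1 + m, by omega⟩ from Fin.ext (by simp; omega), h1]
      exact hzero d (by omega)
    · rw [if_pos rfl]
      have h1 := hdown m 0 0 (by omega) (by omega)
      simp only [Nat.zero_add] at h1
      exact h1
    · rw [if_neg (fun e => by simp at e; omega)]
      have h1 := hdown (s - 1 - m) j m (by omega) (by omega)
      rw [← h1]
      have h2 := htop (j + (s - 1 - m)) (by omega)
      rw [show (⟨m + (s - 1 - m), by omega⟩ : Fin s) = ⟨s - 1, by omega⟩ from Fin.ext (by simp; omega)]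
      exact h2
  have hsingle : ∀ j, a j = c • Pi.single j 1 := fun j => funext fun m => by
    rw [hdiag, Pi.smul_apply, Pi.single_apply, smul_eq_mul, mul_ite, mul_one, mul_zero]
  have hw1 : ∀ m : Fin (s + 1), f (0, Pi.single m 1) = (0, c • Pi.single m 1) := fun m => by
    induction m using Fin.lastCases with
    | last =>
      have e : Fin.last s = (⟨s - 1, by omega⟩ : Fin s).succ := Fin.ext (by simp; omega)
      rw [e, hB, hsingle, map_smul, hYe]
    | cast j => rw [hA, hsingle, map_smul, hXe]
  refine ⟨c, fun w => ?_, fun v => ?_⟩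
  · have : ((LinearMap.id (R := k) : Module.End k (KW k s)).comp (LinearMap.inr k _ _)) w = (0, w) := rfl
    have h1 : (f.comp (LinearMap.inr k (Fin s → k) (Fin (s + 1) → k))) =
        c • LinearMap.inr k (Fin s → k) (Fin (s + 1) → k) := by
      refine LinearMap.pi_ext' fun m => LinearMap.ext_ring ?_
      show f (0, Pi.single m 1) = c • ((0 : Fin s → k), (Pi.single m 1 : Fin (s + 1) → k))
      rw [hw1, Prod.smul_mk, smul_zero]
    have h2 := LinearMap.congr_fun h1 w
    rw [show (0, c • w) = c • ((0 : Fin s → k), w) by rw [Prod.smul_mk, smul_zero]]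
    exact h2
  · have h1 : (LinearMap.fst k _ _).comp (f.comp (LinearMap.inl k (Fin s → k) (Fin (s + 1) → k))) =
        c • LinearMap.id := by
      refine LinearMap.pi_ext' fun j => LinearMap.ext_ring ?_
      exact hsingle j
    exact LinearMap.congr_fun h1 v

/-- A commuting endomorphism is injective as soon as its scalar is not zero, and the scalars add. -/
theorem exists_injective_of_sum {s : ℕ} (hs : 0 < s) {ι : Type*} (t : Finset ι)
    (f : ι → Module.End k (KW k s)) (hX : ∀ j ∈ t, Commute (f j) (liftMap (kX k s)))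
    (hY : ∀ j ∈ t, Commute (f j) (liftMap (kY k s))) (hsum : ∑ j ∈ t, f j = 1) :
    ∃ j ∈ t, Function.Injective (f j) := by
  classical
  choose c hc1 hc2 using fun j : t => end_of_commute hs (f j.1) (hX j.1 j.2) (hY j.1 j.2)
  obtain ⟨j, hj⟩ : ∃ j, c j ≠ 0 := by
    by_contra h
    push Not at h
    have h1 := LinearMap.congr_fun hsum ((0 : Fin s → k), (Pi.single 0 1 : Fin (s + 1) → k))
    rw [LinearMap.sum_apply, Finset.sum_eq_zero (fun j hj => by
      rw [hc1 ⟨j, hj⟩, h, zero_smul]; rfl)] at h1
    have h2 := congrFun (congrArg Prod.snd h1) 0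
    simp at h2
  refine ⟨j.1, j.2, (injective_iff_map_eq_zero _).2 ?_⟩
  rintro ⟨v, w⟩ h
  rw [show (v, w) = ((v, 0) : KW k s) + (0, w) by simp, map_add, hc1 j] at h
  have h1 := congrArg Prod.fst h
  rw [Prod.fst_add, hc2 j] at h1
  simp only [add_zero, Prod.fst_zero, smul_eq_zero, hj, false_or] at h1
  subst h1
  rw [show ((0, 0) : KW k s) = 0 from rfl, map_zero, zero_add] at h
  have h2 := congrArg Prod.snd h
  simp only [Prod.snd_zero, smul_eq_zero, hj, false_or] at h2
  rw [h2]
  rfl

end Cfsg.Agent.Lib.CyclicCorner
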