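import Cfsg.Agent.Lib.CyclicCorner.Monogenic
import Cfsg.Agent.Lib.BrauerStar.NonVanish
import Cfsg.Agent.Lib.BrauerStar.Integral
import Cfsg.Agent.Lib.Blocks.Defect
import Mathlib.RingTheory.Nakayama

/-!
# The corner of a block with cyclic defect group is commutative
-/

set_option autoImplicit false
set_option linter.unusedSectionVars false
set_option linter.style.haveILetI false

namespace Cfsg.Agent.Lib.CyclicCorner

open Cfsg Cfsg.Agent.Lib.Blocks Cfsg.Agent.Lib.BrauerStar MonoidAlgebra

universe u

variable {G : Type u} [Group G] [Fintype G] {M : Ideal AlgInt} [hMp : M.IsPrime] {p : ℕ}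

variable (M G) in
/-- Reduction of the group ring modulo the ideal. -/
noncomputable def redG : RG M G →+* MonoidAlgebra (ResField M) G := mapRingHom G (red M)

theorem redG_smul (r : locSubring M) (x : RG M G) : redG G M (r • x) = red M r • redG G M x := by
  ext g
  simp [redG]

theorem redG_el (g : G) : redG G M (el g : RG M G) = single g (1 : ResField M) := by
  rw [redG, el, MonoidAlgebra.of_apply, mapRingHom_single, map_one]

theorem redG_surjective : Function.Surjective (redG G M) := by
  intro x
  induction x using MonoidAlgebra.induction_linear with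
  | zero => exact ⟨0, map_zero _⟩
  | single g c =>
    obtain ⟨r, hr⟩ := red_surjective (M := M) c
    exact ⟨single g r, by rw [redG, mapRingHom_single, hr]⟩
  | add a b ha hb =>
    obtain ⟨a', rfl⟩ := ha
    obtain ⟨b', rfl⟩ := hb
    exact ⟨a' + b', map_add _ _ _⟩

theorem redG_eq_zero_iff {x : RG M G} : redG G M x = 0 ↔ BrZero ⊥ x := by
  rw [brZero_bot_iff]
  constructor
  · intro h g
    have h1 : (redG G M x).coeff g = 0 := by rw [h]; simp
    rw [redG, coeff_mapRingHom, red_eq_zero_iff] at h1
    exact h1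
  · intro h
    ext g
    rw [redG, coeff_mapRingHom]
    simpa using red_eq_zero_iff.2 (h g)

/-- Counting cosets carrying `g` to a given conjugate. -/
theorem card_out_conj (g h : G) (R : Subgroup G) [Fintype (G ⧸ R)] [DecidableEq G]
    (hR : R ≤ Subgroup.centralizer ({g} : Set G)) :
    (Finset.univ.filter fun b : G ⧸ R => b.out * g * b.out⁻¹ = h * g * h⁻¹).card =
      R.relIndex (Subgroup.centralizer ({g} : Set G)) := by
  classical
  set C := Subgroup.centralizer ({g} : Set G) with hC
  let e := Subgroup.quotientEquivProdOfLE hR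
  have hkey : ∀ b : G ⧸ R, b.out * g * b.out⁻¹ = h * g * h⁻¹ ↔ (e b).1 = QuotientGroup.mk h := by
    intro b
    have hb : (e b).1 = QuotientGroup.mk b.out := by
      conv_lhs => rw [← QuotientGroup.out_eq' b]
      rfl
    rw [hb, QuotientGroup.eq, hC, Subgroup.mem_centralizer_singleton_iff]
    constructor
    · intro hb'
      calc b.out⁻¹ * h * g = b.out⁻¹ * (h * g * h⁻¹) * h := by group
        _ = b.out⁻¹ * (b.out * g * b.out⁻¹) * h := by rw [hb']
        _ = g * (b.out⁻¹ * h) := by group
    · intro hb'
      calc b.out * g * b.out⁻¹ = b.out * (g * (b.out⁻¹ * h)) * h⁻¹ := by group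
        _ = b.out * (b.out⁻¹ * h * g) * h⁻¹ := by rw [hb']
        _ = h * g * h⁻¹ := by group
  rw [← Fintype.card_subtype, ← Nat.card_eq_fintype_card, Subgroup.relIndex, Subgroup.index]
  exact Nat.card_congr
    { toFun := fun b => (e b.1).2
      invFun := fun z => ⟨e.symm (QuotientGroup.mk h, z), (hkey _).2 (by rw [e.apply_symm_apply])⟩
      left_inv := fun b => Subtype.ext (by
        simp only [← (hkey b.1).1 b.2, Prod.mk.eta, e.symm_apply_apply])
      right_inv := fun z => by simp only [e.apply_symm_apply] }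

variable {B : Set (IrrCharacter G)} {P : Subgroup G}

theorem exists_good_conj (hM : IsPModular p M) (hB : IsPBlock M B) (hPD : IsDefectGroup p M B P)
    {g : G} (hg : ¬ MemLocalIdeal M (blockCoeff B g)) :
    ∃ a : G, ∃ R : Subgroup G, R ≤ P ∧ R ≤ Subgroup.centralizer ({a * g * a⁻¹} : Set G) ∧
      ¬ p ∣ R.relIndex (Subgroup.centralizer ({a * g * a⁻¹} : Set G)) := by
  classical
  haveI := Fact.mk hM.1
  obtain ⟨S⟩ : Nonempty (Sylow p (Subgroup.centralizer ({g} : Set G))) := inferInstance
  obtain ⟨g₀, hg₀, T, rfl⟩ := hPD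
  obtain ⟨a, ha⟩ := isConjLE_of_coeff hM hB hg₀ T (isPGroup_sylowSub S)
    (mem_centralizer_sylowSub S) hg
  refine ⟨a, (sylowSub S).map (MulAut.conj a).toMonoidHom, ha, ?_, ?_⟩
  · rw [centralizer_conj_singleton]
    exact Subgroup.map_mono (sylowSub_le S)
  · rw [centralizer_conj_singleton, Subgroup.relIndex_map_map_of_injective _ _ (MulAut.conj a).injective]
    have h1 : (sylowSub S).subgroupOf (Subgroup.centralizer ({g} : Set G)) = S :=
      Subgroup.comap_map_eq_self_of_injective (Subgroup.subtype_injective _) _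
    rw [Subgroup.relIndex, h1]
    exact Sylow.not_dvd_index S

open scoped Classical in
/-- The block idempotent modulo the ideal is a sum of traces from subgroups of `P`. -/
theorem exists_trace_form (hM : IsPModular p M) (hB : IsPBlock M B) (hPD : IsDefectGroup p M B P) :
    ∃ (t : Finset G) (R : G → Subgroup G) (c : G → ResField M),
      (∀ g ∈ t, R g ≤ P) ∧ (∀ g ∈ t, ∀ r ∈ R g, Commute r g) ∧
      ∀ (Rfin : ∀ g, Fintype (G ⧸ R g)),
      redG G M (eBlock hM hB) = ∑ g ∈ t, c g •
        @Finset.sum (G ⧸ R g) _ _ (@Finset.univ _ (Rfin g)) fun a => single (a.out * g * a.out⁻¹) (1 : ResField M) := by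
  haveI := Fact.mk hM.1
  haveI := resField_charP (M := M) hM
  let Good : G → Prop := fun g => ∃ R : Subgroup G, R ≤ P ∧
    R ≤ Subgroup.centralizer ({g} : Set G) ∧
    ¬ p ∣ R.relIndex (Subgroup.centralizer ({g} : Set G))
  let R : G → Subgroup G := fun g => if h : Good g then h.choose else ⊥
  let sel : ConjClasses G → G := fun C =>
    if h : ∃ g, ConjClasses.mk g = C ∧ Good g then h.choose else C.out
  let cf : G → ResField M := fun g => (redG G M (eBlock hM hB)).coeff g
  haveI := Fintype.ofFinite (ConjClasses G)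
  let Cs : Finset (ConjClasses G) := Finset.univ.filter fun C => cf C.out ≠ 0
  have hcls : ∀ a g : G, blockCoeff B (a * g * a⁻¹) = blockCoeff B g := fun a g =>
    isClassFunction_blockCoeff B g a
  have hcf : ∀ g, cf g = 0 ↔ MemLocalIdeal M (blockCoeff B g) := fun g => by
    show (redG G M (eBlock hM hB)).coeff g = 0 ↔ _
    rw [redG, coeff_mapRingHom, red_eq_zero_iff, ← coef_eBlock hM hB]
    rfl
  have hcfc : ∀ g h : G, IsConj g h → cf g = cf h := fun g h hgh => by
    obtain ⟨a, rfl⟩ := isConj_iff.1 hgh
    show (redG G M _).coeff g = (redG G M _).coeff _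
    rw [redG, coeff_mapRingHom, coeff_mapRingHom]
    congr 1
    refine Subtype.ext ?_
    show coef (eBlock hM hB) g = coef (eBlock hM hB) (a * g * a⁻¹)
    rw [coef_eBlock, hcls]
  have hout : ∀ C : ConjClasses G, ConjClasses.mk C.out = C := fun C => Quotient.out_eq C
  have hsel : ∀ C ∈ Cs, ConjClasses.mk (sel C) = C ∧ Good (sel C) := fun C hC => by
    have hne : ¬ MemLocalIdeal M (blockCoeff B C.out) := fun h =>
      (Finset.mem_filter.1 hC).2 ((hcf _).2 h)
    obtain ⟨a, S, h1, h2, h3⟩ := exists_good_conj hM hB hPD hne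
    have hex : ∃ g, ConjClasses.mk g = C ∧ Good g :=
      ⟨a * C.out * a⁻¹, by
        rw [← hout C, ConjClasses.mk_eq_mk_iff_isConj]
        exact (isConj_iff.2 ⟨a, by rw [hout]⟩).symm, S, h1, h2, h3⟩
    show ConjClasses.mk (sel C) = C ∧ Good (sel C)
    simp only [sel, dif_pos hex]
    exact hex.choose_spec
  have hR : ∀ g, Good g → R g ≤ P ∧ R g ≤ Subgroup.centralizer ({g} : Set G) ∧
      ¬ p ∣ (R g).relIndex (Subgroup.centralizer ({g} : Set G)) := fun g hg => by
    simp only [R, dif_pos hg]
    exact hg.choose_spec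
  refine ⟨Cs.image sel, R,
    fun g => cf g * ((R g).relIndex (Subgroup.centralizer ({g} : Set G)) : ResField M)⁻¹,
    fun g hg => ?_, fun g hg r hr => ?_, fun Rfin => ?_⟩
  · obtain ⟨C, hC, rfl⟩ := Finset.mem_image.1 hg
    exact (hR _ (hsel C hC).2).1
  · obtain ⟨C, hC, rfl⟩ := Finset.mem_image.1 hg
    exact Subgroup.mem_centralizer_singleton_iff.1 ((hR _ (hsel C hC).2).2.1 hr)
  rw [Finset.sum_image (fun C hC C' hC' e => by rw [← (hsel C hC).1, ← (hsel C' hC').1, e])]
  ext x
  simp only [MonoidAlgebra.coeff_sum, MonoidAlgebra.coeff_smul, Finsupp.coe_finsetSum,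
    Finset.sum_apply, Finsupp.smul_apply, smul_eq_mul, MonoidAlgebra.coeff_single,
    Finsupp.single_apply, Finset.sum_boole]
  show cf x = _
  by_cases hx : ConjClasses.mk x ∈ Cs
  · rw [Finset.sum_eq_single (ConjClasses.mk x)]
    · obtain ⟨hmk, hgood⟩ := hsel _ hx
      obtain ⟨h, hh⟩ := isConj_iff.1 (ConjClasses.mk_eq_mk_iff_isConj.1 hmk)
      have hcard := card_out_conj (sel (ConjClasses.mk x)) h _ (hR _ hgood).2.1
      rw [hh] at hcard
      rw [hcard, mul_assoc, inv_mul_cancel₀ (by rw [Ne, CharP.cast_eq_zero_iff _ p]; exact (hR _ hgood).2.2),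
        mul_one]
      exact hcfc _ _ (ConjClasses.mk_eq_mk_iff_isConj.1 hmk.symm)
    · intro C hC hne
      rw [Finset.filter_eq_empty_iff.2 (fun b _ hb => hne ?_), Finset.card_empty, Nat.cast_zero,
        mul_zero]
      rw [← (hsel C hC).1, ConjClasses.mk_eq_mk_iff_isConj]
      exact isConj_iff.2 ⟨b.out, hb⟩
    · exact fun h => absurd hx h
  · rw [Finset.sum_eq_zero fun C hC => ?_]
    · by_contra h0
      refine hx (Finset.mem_filter.2 ⟨Finset.mem_univ _, ?_⟩)
      rw [hcfc _ x (ConjClasses.mk_eq_mk_iff_isConj.1 (hout _))]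
      exact h0
    · rw [Finset.filter_eq_empty_iff.2 (fun b _ hb => hx ?_), Finset.card_empty, Nat.cast_zero,
        mul_zero]
      rw [← hb, ← ConjClasses.mk_eq_mk_iff_isConj.2 (isConj_iff.2 ⟨b.out, rfl⟩), (hsel C hC).1]
      exact hC

/-- The element in the corner. -/
noncomputable def sand (i : RG M G) : RG M G →ₗ[locSubring M] RG M G :=
  (LinearMap.mulRight (locSubring M) i).comp (LinearMap.mulLeft (locSubring M) i)

theorem sand_apply (i x : RG M G) : sand i x = i * x * i := rfl

theorem inCorner_sand {i : RG M G} (hi : IsPrimIn (⊤ : Subalgebra (locSubring M) (RG M G)) i)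
    (x : RG M G) : InCorner (⊤ : Subalgebra (locSubring M) (RG M G)) i i (sand i x) :=
  ⟨Algebra.mem_top, by rw [sand_apply, ← mul_assoc, ← mul_assoc, hi.idem],
    by rw [sand_apply, mul_assoc, hi.idem]⟩

/-- **The corner is commutative.** -/
theorem commute_corner (hM : IsPModular p M) (hB : IsPBlock M B) (hPD : IsDefectGroup p M B P)
    [IsCyclic P] {i : RG M G} (hi : IsPrimIn (⊤ : Subalgebra (locSubring M) (RG M G)) i)
    (hiB : i * eBlock hM hB = i) (x y : RG M G) :
    sand i x * sand i y = sand i y * sand i x := by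
  classical
  haveI := Fact.mk hM.1
  haveI := resField_charP (M := M) hM
  set S : Subalgebra (locSubring M) (RG M G) := ⊤
  have hS : MonicSplits (locSubring M) := monicSplits_locSubring
  let ε : MonoidAlgebra (ResField M) G →ₗ[ResField M] ResField M :=
    { toFun := fun z => ∑ g : G, z.coeff g * rho S i (sand i (el g))
      map_add' := fun a b => by simp [add_mul, Finset.sum_add_distrib]
      map_smul' := fun c a => by simp [Finset.mul_sum, mul_assoc] }
  have hε : ∀ a : RG M G, ε (redG G M a) = rho S i (sand i a) := by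
    intro a
    induction a using MonoidAlgebra.induction_linear with
    | zero =>
      rw [map_zero, map_zero, map_zero,
        rho_zero_of_nonunit hS hi ⟨Algebra.mem_top, mul_zero i, zero_mul i⟩ hi.not_isUnitIn_zero]
    | single g r =>
      have e : single g r = r • (el g : RG M G) := by
        rw [el, MonoidAlgebra.of_apply, MonoidAlgebra.smul_single', mul_one]
      have hr : rho S i (r • i) = red M r := rho_eq hS hi (inCorner_smul hi r)
        (by rw [sub_self]; exact hi.not_isUnitIn_zero)
      rw [e, map_smul (sand i), show r • sand i (el g) = (r • i) * sand i (el g) by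
          rw [smul_mul_assoc, (inCorner_sand hi _).2.1],
        rho_mul hS hi (inCorner_smul hi r) (inCorner_sand hi _), hr, redG_smul, redG_el]
      show ∑ h : G, _ = _
      rw [Finset.sum_eq_single g]
      · simp
      · intro h _ hne
        simp [Finsupp.single_eq_of_ne hne]
      · simp
    | add a b ha hb => rw [map_add, map_add, map_add, ha, hb,
        rho_add hS hi (inCorner_sand hi _) (inCorner_sand hi _)]
  have hsand : ∀ a : RG M G, redG G M (sand i a) = redG G M i * redG G M a * redG G M i :=
    fun a => by rw [sand_apply, map_mul, map_mul]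
  have hfixS : ∀ {a : RG M G}, InCorner S i i a → sand i a = a := fun ha => by
    rw [sand_apply, ha.2.1, ha.2.2]
  have hidem : redG G M i * redG G M i = redG G M i := by rw [← map_mul, hi.idem]
  have hlift : ∀ a, redG G M i * a * redG G M i = a →
      ∃ a', InCorner S i i a' ∧ redG G M a' = a ∧ ε a = rho S i a' := fun a ha => by
    obtain ⟨a₀, rfl⟩ := redG_surjective (M := M) a
    refine ⟨sand i a₀, inCorner_sand hi a₀, by rw [hsand, ha], hε a₀⟩
  obtain ⟨t, R, c, hRP, hcomm, he⟩ := exists_trace_form hM hB hPD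
  let D : TraceCorner (ResField M) G P :=
    { i := redG G M i
      idem := hidem
      ε := ε
      ε_i := by
        rw [hε, hfixS (inCorner_self hi), rho_self hS hi]
      ε_mul := fun a b ha hb => by
        obtain ⟨a', hac, ha', hae⟩ := hlift a ha
        obtain ⟨b', hbc, hb', hbe⟩ := hlift b hb
        rw [hae, hbe, ← ha', ← hb', ← map_mul, hε, hfixS (hac.mul hbc),
          rho_mul hS hi hac hbc]
      t := t
      R := R
      R_le := hRP
      comm := hcomm
      coe := c
      Rfin := fun g => Fintype.ofFinite _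
      e := redG G M (eBlock hM hB)
      e_def := he _
      e_central := fun h => by
        rw [← redG_el, ← map_mul, ← map_mul, eBlock_mul_comm hM hB]
      ie := by rw [← map_mul, hiB] }
  have hunit : ∀ a, D.i * a * D.i = a → D.ε a ≠ 0 →
      ∃ w, D.i * w * D.i = w ∧ w * a = D.i := by
    intro a ha hne
    obtain ⟨a', hac, ha', hae⟩ := hlift a ha
    have hu : IsUnitIn S i a' := by
      by_contra hn
      exact hne (hae.trans (rho_zero_of_nonunit hS hi hac hn))
    obtain ⟨w, -, hw1, hw2, -, hw3⟩ := hu
    refine ⟨redG G M w, ?_, ?_⟩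
    · show redG G M i * redG G M w * redG G M i = _
      rw [← map_mul, hw1, ← map_mul, hw2]
    · show redG G M w * a = redG G M i
      rw [← ha', ← map_mul, hw3]
  obtain ⟨u, hu⟩ := IsCyclic.exists_generator (α := P)
  have hPu : P = Subgroup.zpowers (u : G) := by
    ext z
    constructor
    · intro hz
      obtain ⟨n, hn⟩ := hu ⟨z, hz⟩
      exact ⟨n, by simpa using congrArg Subtype.val hn⟩
    · intro hz; exact Subgroup.zpowers_le.2 u.2 hz
  obtain ⟨n₀, hn₀⟩ := IsPGroup.iff_orderOf.1 (IsDefectGroup.isPGroup hPD) u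
  have huo : (u : G) ^ p ^ n₀ = 1 := by rw [← hn₀, ← Subgroup.orderOf_coe, pow_orderOf_eq_one]
  obtain ⟨xb, hxb, n, hspan⟩ := exists_powers_span D hunit hPu huo
  obtain ⟨X, hXc, hXr, -⟩ := hlift xb hxb
  set C : Submodule (locSubring M) (RG M G) := LinearMap.range (sand i) with hC
  set T : Submodule (locSubring M) (RG M G) :=
    Submodule.span (locSubring M) (Set.range fun m : Fin n => X ^ (m : ℕ) * i) with hT
  have hCT : C ≤ T := by
    refine Submodule.le_of_le_smul_of_le_jacobson_bot (I := IsLocalRing.maximalIdeal (locSubring M))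
      (by rw [hC, LinearMap.range_eq_map]; exact (Module.Finite.fg_top).map _)
      (IsLocalRing.maximalIdeal_le_jacobson _) ?_
    rintro a ⟨a₀, rfl⟩
    have h1 := hspan (redG G M (sand i a₀)) (by
      show redG G M i * _ * redG G M i = _
      rw [← map_mul, ← map_mul, (inCorner_sand hi a₀).2.1, (inCorner_sand hi a₀).2.2])
    have h2 : ∀ z ∈ Submodule.span (ResField M)
        (Set.range fun m : Fin n => xb ^ (m : ℕ) * D.i), ∃ s ∈ T, redG G M s = z := by
      intro z hz
      induction hz using Submodule.span_induction with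
      | mem z hz =>
        obtain ⟨m, rfl⟩ := hz
        exact ⟨X ^ (m : ℕ) * i, Submodule.subset_span ⟨m, rfl⟩, by rw [map_mul, map_pow, hXr]⟩
      | zero => exact ⟨0, zero_mem _, map_zero _⟩
      | add a b _ _ ha hb =>
        obtain ⟨a', ha1, rfl⟩ := ha
        obtain ⟨b', hb1, rfl⟩ := hb
        exact ⟨a' + b', add_mem ha1 hb1, map_add _ _ _⟩
      | smul r a _ ha =>
        obtain ⟨a', ha1, rfl⟩ := ha
        obtain ⟨r', rfl⟩ := red_surjective (M := M) r
        exact ⟨r' • a', Submodule.smul_mem _ _ ha1, redG_smul _ _⟩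
    obtain ⟨s, hs, hse⟩ := h2 _ h1
    obtain ⟨s₀, hs₀⟩ : s ∈ C := by
      refine (Submodule.span_le.2 ?_) hs
      rintro _ ⟨m, rfl⟩
      have hcm : Commute i X := hXc.2.1.trans hXc.2.2.symm
      refine ⟨X ^ (m : ℕ) * i, ?_⟩
      rw [sand_apply, ← mul_assoc, (hcm.pow_right _).eq, mul_assoc _ i i, hi.idem, mul_assoc, hi.idem]
    have hd : sand i a₀ - s = sand i (a₀ - s₀) := by rw [map_sub, hs₀]
    have hsm : BrZero ⊥ (sand i a₀ - s) := redG_eq_zero_iff.1 (by rw [map_sub, hse, sub_self])
    refine Submodule.mem_sup.2 ⟨s, hs, sand i a₀ - s, ?_, by abel⟩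
    have hexp : sand i a₀ - s = sand i (∑ g : G, ((sand i a₀ - s).coeff g) • el g) := by
      have h4 : ∀ z : RG M G, ∑ g : G, z.coeff g • (el g : RG M G) = z := fun z => by
        refine coef_injective (funext fun h => ?_)
        rw [coef_sum, Finset.sum_apply, Finset.sum_eq_single h]
        · rw [coef_smul, Pi.smul_apply, el, MonoidAlgebra.of_apply, coef_single, if_pos rfl,
            OneMemClass.coe_one, smul_eq_mul, mul_one]
          rfl
        · intro g _ hne
          rw [coef_smul, Pi.smul_apply, el, MonoidAlgebra.of_apply, coef_single, if_neg hne,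
            smul_zero]
        · simp
      rw [h4, hd, hfixS (inCorner_sand hi _)]
    rw [hexp, map_sum]
    refine Submodule.sum_mem _ fun g _ => ?_
    rw [map_smul]
    exact Submodule.smul_mem_smul (by
      rw [maximalIdeal_locSubring, mem_locIdeal]
      exact brZero_bot_iff.1 hsm g) (LinearMap.mem_range_self _ _)
  have hXi : Commute i X := hXc.2.1.trans hXc.2.2.symm
  have hTT : ∀ a ∈ T, ∀ b ∈ T, Commute a b := by
    intro a ha b hb
    induction ha, hb using Submodule.span_induction₂ with
    | mem_mem a b ha hb =>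
      obtain ⟨m, rfl⟩ := ha
      obtain ⟨l, rfl⟩ := hb
      refine Commute.mul_left (Commute.mul_right ?_ ?_) (Commute.mul_right ?_ (Commute.refl i))
      · exact (Commute.refl X).pow_pow _ _
      · exact (hXi.pow_right _).symm
      · exact hXi.pow_right _
    | zero_left y => exact Commute.zero_left y
    | zero_right x => exact Commute.zero_right x
    | add_left x y z _ _ _ h1 h2 => exact h1.add_left h2
    | add_right x y z _ _ _ h1 h2 => exact h1.add_right h2
    | smul_left r x y _ _ h => exact h.smul_left r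
    | smul_right r x y _ _ h => exact h.smul_right r
  exact hTT _ (hCT (LinearMap.mem_range_self _ x)) _ (hCT (LinearMap.mem_range_self _ y))

end Cfsg.Agent.Lib.CyclicCorner
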