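import Cfsg.Agent.Lib.CyclicCorner.CornerModule

/-!
# The corner of a block with cyclic defect group is generated by one element
-/

set_option autoImplicit false
set_option linter.unusedSectionVars false

namespace Cfsg.Agent.Lib.CyclicCorner

open Module MonoidAlgebra

variable {k : Type*} [Field k] {G : Type*} [Group G] [Fintype G] {P : Subgroup G}
  (D : TraceCorner k G P)

/-- The corner, as a subspace. -/
noncomputable def cornerSp : Submodule k (MonoidAlgebra k G) :=
  LinearMap.range ((LinearMap.mulRight k D.i).comp (LinearMap.mulLeft k D.i))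

theorem mem_cornerSp {a : MonoidAlgebra k G} : a ∈ cornerSp D ↔ D.i * a * D.i = a := by
  constructor
  · rintro ⟨b, rfl⟩
    exact sw_sw D b
  · intro h
    exact ⟨a, h⟩

/-- The part of residue zero. -/
noncomputable def cornerRad : Submodule k (MonoidAlgebra k G) :=
  cornerSp D ⊓ LinearMap.ker D.ε

theorem mem_cornerRad {a : MonoidAlgebra k G} :
    a ∈ cornerRad D ↔ D.i * a * D.i = a ∧ D.ε a = 0 := by
  rw [cornerRad, Submodule.mem_inf, mem_cornerSp, LinearMap.mem_ker]

theorem mul_mem_cornerSp {a b : MonoidAlgebra k G} (ha : D.i * a * D.i = a)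
    (hb : D.i * b * D.i = b) : D.i * (a * b) * D.i = a * b := by
  rw [← mul_assoc D.i a b, mul_assoc _ b, mul_i_of_mem D hb, i_mul_of_mem D ha]

theorem rad_mul_left {a b : MonoidAlgebra k G} (ha : a ∈ cornerRad D) (hb : D.i * b * D.i = b) :
    a * b ∈ cornerRad D := by
  rw [mem_cornerRad] at ha ⊢
  exact ⟨mul_mem_cornerSp D ha.1 hb, by rw [D.ε_mul _ _ ha.1 hb, ha.2, zero_mul]⟩

theorem rad_mul_right {a b : MonoidAlgebra k G} (ha : D.i * a * D.i = a) (hb : b ∈ cornerRad D) :
    a * b ∈ cornerRad D := by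
  rw [mem_cornerRad] at hb ⊢
  exact ⟨mul_mem_cornerSp D ha hb.1, by rw [D.ε_mul _ _ ha hb.1, hb.2, mul_zero]⟩

/-- The products of two elements of residue zero. -/
noncomputable def cornerSq : Submodule k (MonoidAlgebra k G) :=
  Submodule.span k {c | ∃ a ∈ cornerRad D, ∃ b ∈ cornerRad D, a * b = c}

theorem exists_isDer {W : Submodule k (MonoidAlgebra k G)} (hW : cornerSq D ≤ W)
    {x : MonoidAlgebra k G} (hx : x ∈ cornerRad D) (hxW : x ∉ W) :
    ∃ α : MonoidAlgebra k G →ₗ[k] k, IsDer D α ∧ α x = 1 ∧ ∀ y ∈ cornerRad D, y ∈ W → α y = 0 := by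
  obtain ⟨f, hf, hfW⟩ := Submodule.exists_dual_map_eq_bot_of_notMem hxW inferInstance
  have hf0 : ∀ w ∈ W, f w = 0 := fun w hw => by
    have : f w ∈ W.map f := ⟨w, hw, rfl⟩
    rwa [hfW, Submodule.mem_bot] at this
  let q : MonoidAlgebra k G →ₗ[k] MonoidAlgebra k G :=
    (LinearMap.mulRight k D.i).comp (LinearMap.mulLeft k D.i) - D.ε.smulRight D.i
  have hq : ∀ a, D.i * a * D.i = a → q a = a - D.ε a • D.i := fun a ha => by
    show D.i * a * D.i - _ = _
    rw [ha]
    rfl
  have hqr : ∀ a, D.i * a * D.i = a → q a ∈ cornerRad D := fun a ha => by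
    rw [hq a ha, mem_cornerRad, map_sub, map_smul, D.ε_i, smul_eq_mul, mul_one, sub_self]
    refine ⟨?_, rfl⟩
    rw [mul_sub, sub_mul, ha, mul_smul_comm, smul_mul_assoc, D.idem, D.idem]
  refine ⟨(f x)⁻¹ • f.comp q, ⟨?_, ?_⟩, ?_, ?_⟩
  · show (f x)⁻¹ • f (q D.i) = 0
    rw [hq _ (i_mem D), D.ε_i, one_smul, sub_self, map_zero, smul_zero]
  · intro a b ha hb
    show (f x)⁻¹ • f (q (a * b)) = D.ε a * ((f x)⁻¹ • f (q b)) + D.ε b * ((f x)⁻¹ • f (q a))
    have e : q (a * b) = D.ε a • q b + D.ε b • q a + q a * q b := by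
      rw [hq _ (mul_mem_cornerSp D ha hb), hq a ha, hq b hb, D.ε_mul a b ha hb, sub_mul, mul_sub,
        mul_sub, mul_smul_comm, mul_smul_comm, smul_mul_assoc, smul_mul_assoc,
        mul_i_of_mem D ha, i_mul_of_mem D hb, D.idem]
      module
    rw [e, map_add, map_add, map_smul, map_smul,
      hf0 _ (hW (Submodule.subset_span ⟨_, hqr a ha, _, hqr b hb, rfl⟩))]
    simp only [smul_eq_mul]
    ring
  · rw [mem_cornerRad] at hx
    show (f x)⁻¹ • f (q x) = 1
    rw [hq _ hx.1, hx.2, zero_smul, sub_zero, smul_eq_mul, inv_mul_cancel₀ hf]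
  · intro y hy hyW
    rw [mem_cornerRad] at hy
    show (f x)⁻¹ • f (q y) = 0
    rw [hq _ hy.1, hy.2, zero_smul, sub_zero, hf0 y hyW, smul_zero]

/-- **One element generates modulo the square.** -/
theorem exists_generator {p : ℕ} [Fact p.Prime] [CharP k p] {u : G}
    (hP : P = Subgroup.zpowers u) {a : ℕ} (hu : u ^ p ^ a = 1) :
    ∃ x ∈ cornerRad D, cornerRad D ≤ Submodule.span k {x} ⊔ cornerSq D := by
  by_contra hcon
  simp only [not_exists, not_and, SetLike.not_le_iff_exists] at hcon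
  obtain ⟨x, hx, hxn⟩ := hcon 0 (zero_mem _)
  obtain ⟨y, hy, hyn⟩ := hcon x hx
  have hxy : x ∉ Submodule.span k {y} ⊔ cornerSq D := fun hmem => by
    obtain ⟨z, hz, w, hw, e⟩ := Submodule.mem_sup.1 hmem
    obtain ⟨c, rfl⟩ := Submodule.mem_span_singleton.1 hz
    by_cases hc : c = 0
    · rw [hc, zero_smul, zero_add] at e
      exact hxn (e ▸ Submodule.mem_sup_right hw)
    · refine hyn (Submodule.mem_sup.2 ⟨c⁻¹ • x, Submodule.smul_mem _ _ (Submodule.mem_span_singleton_self x),
        -(c⁻¹ • w), Submodule.neg_mem _ (Submodule.smul_mem _ _ hw), ?_⟩)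
      rw [← e, smul_add, inv_smul_smul₀ hc, add_neg_cancel_right]
  obtain ⟨α, hα, hαx, hα0⟩ := exists_isDer D le_sup_right hx hxy
  obtain ⟨β, hβ, hβy, hβ0⟩ := exists_isDer D le_sup_right hy hyn
  have hx' := (mem_cornerRad D).1 hx
  have hy' := (mem_cornerRad D).1 hy
  exact no_two_derivations D hP hu hα hβ hx'.1 hy'.1
    ⟨hx'.2, hαx, hβ0 x hx (Submodule.mem_sup_left (Submodule.mem_span_singleton_self x))⟩
    ⟨hy'.2, hα0 y hy (Submodule.mem_sup_left (Submodule.mem_span_singleton_self y)), hβy⟩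

variable (hunit : ∀ a, D.i * a * D.i = a → D.ε a ≠ 0 →
  ∃ w, D.i * w * D.i = w ∧ w * a = D.i)

include hunit in
/-- The part of residue zero is principal. -/
theorem rad_le_mul {x : MonoidAlgebra k G} (hx : x ∈ cornerRad D)
    (hgen : cornerRad D ≤ Submodule.span k {x} ⊔ cornerSq D) :
    cornerRad D ≤ (cornerSp D).map (LinearMap.mulRight k x) := by
  classical
  set L := cornerSp D with hL
  set J := cornerRad D with hJ
  let Mx := L.map (LinearMap.mulRight k x)
  obtain ⟨S, hS⟩ := (IsNoetherian.noetherian J : J.FG)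
  have hSJ : ∀ y ∈ S, y ∈ J := fun y hy => hS ▸ Submodule.subset_span hy
  let ML : Finset (MonoidAlgebra k G) → Submodule k (MonoidAlgebra k G) := fun T =>
    Mx ⊔ ⨆ y ∈ T, L.map (LinearMap.mulRight k y)
  let MJ : Finset (MonoidAlgebra k G) → Submodule k (MonoidAlgebra k G) := fun T =>
    Mx ⊔ ⨆ y ∈ T, J.map (LinearMap.mulRight k y)
  have hxMx : x ∈ Mx := ⟨D.i, (mem_cornerSp D).2 (i_mem D),
    i_mul_of_mem D ((mem_cornerRad D).1 hx).1⟩
  have step : ∀ T : Finset (MonoidAlgebra k G), J ≤ ML T → J ≤ MJ T := by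
    intro T hT
    refine hgen.trans (sup_le (Submodule.span_le.2 fun _ h => ?_) (Submodule.span_le.2 ?_))
    · rw [Set.mem_singleton_iff] at h
      exact h ▸ Submodule.mem_sup_left hxMx
    rintro _ ⟨a, ha, b, hb, rfl⟩
    have : ML T ≤ (MJ T).comap (LinearMap.mulLeft k a) := by
      refine sup_le ?_ (iSup₂_le fun y hy => ?_)
      · rintro _ ⟨l, hl, rfl⟩
        refine Submodule.mem_sup_left ⟨a * l, ?_, by simp [mul_assoc]⟩
        exact ((mem_cornerSp D).2 (mul_mem_cornerSp D ((mem_cornerRad D).1 ha).1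
          ((mem_cornerSp D).1 hl)))
      · rintro _ ⟨l, hl, rfl⟩
        refine Submodule.mem_sup_right (Submodule.mem_iSup_of_mem y (Submodule.mem_iSup_of_mem hy
          ⟨a * l, rad_mul_left D ha ((mem_cornerSp D).1 hl), by simp [mul_assoc]⟩))
    exact this (hT hb)
  have hstart : J ≤ ML S := by
    rw [← hS, Submodule.span_le]
    intro y hy
    exact Submodule.mem_sup_right (Submodule.mem_iSup_of_mem y (Submodule.mem_iSup_of_mem hy
      ⟨D.i, (mem_cornerSp D).2 (i_mem D), i_mul_of_mem D ((mem_cornerRad D).1 (hSJ y hy)).1⟩))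
  suffices key : ∀ T : Finset (MonoidAlgebra k G), (∀ y ∈ T, y ∈ J) → J ≤ ML T → J ≤ Mx from
    key S hSJ hstart
  intro T
  induction T using Finset.induction_on with
  | empty => intro _ h; simpa [ML] using h
  | insert y T hy ih =>
    intro hT h
    refine ih (fun z hz => hT z (Finset.mem_insert_of_mem hz)) (h.trans (sup_le le_sup_left ?_))
    rw [Finset.iSup_insert]
    refine sup_le ?_ le_sup_right
    have hyJ := (mem_cornerRad D).1 (hT y (Finset.mem_insert_self y T))
    have h1 : y ∈ MJ (insert y T) := step _ h (hT y (Finset.mem_insert_self y T))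
    rw [show MJ (insert y T) = J.map (LinearMap.mulRight k y) ⊔
        (Mx ⊔ ⨆ z ∈ T, J.map (LinearMap.mulRight k z)) by
      simp only [MJ, Finset.iSup_insert]; ac_rfl] at h1
    obtain ⟨_, ⟨j, hj, rfl⟩, r, hr, e⟩ := Submodule.mem_sup.1 h1
    have hjc := (mem_cornerRad D).1 hj
    have hr' : r ∈ ML T := by
      refine (sup_le_sup_left (iSup₂_mono fun z _ => Submodule.map_mono inf_le_left) Mx) hr
    obtain ⟨w, hw, hwu⟩ := hunit (D.i - j) (by rw [mul_sub, sub_mul, i_mem, hjc.1])
      (by rw [map_sub, D.ε_i, hjc.2, sub_zero]; exact one_ne_zero)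
    have hML : ∀ l ∈ L, ∀ z ∈ ML T, l * z ∈ ML T := by
      intro l hl
      have : ML T ≤ (ML T).comap (LinearMap.mulLeft k l) := by
        refine sup_le ?_ (iSup₂_le fun z hz => ?_)
        · rintro _ ⟨m, hm, rfl⟩
          exact Submodule.mem_sup_left ⟨l * m, (mem_cornerSp D).2 (mul_mem_cornerSp D
            ((mem_cornerSp D).1 hl) ((mem_cornerSp D).1 hm)), by simp [mul_assoc]⟩
        · rintro _ ⟨m, hm, rfl⟩
          exact Submodule.mem_sup_right (Submodule.mem_iSup_of_mem z (Submodule.mem_iSup_of_mem hz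
            ⟨l * m, (mem_cornerSp D).2 (mul_mem_cornerSp D
              ((mem_cornerSp D).1 hl) ((mem_cornerSp D).1 hm)), by simp [mul_assoc]⟩))
      exact fun z hz => this hz
    have hy1 : y = w * r := by
      have e' : (D.i - j) * y = r := by
        rw [sub_mul, i_mul_of_mem D hyJ.1]
        exact sub_eq_of_eq_add' e.symm
      rw [← e', ← mul_assoc, hwu, i_mul_of_mem D hyJ.1]
    rintro _ ⟨l, hl, rfl⟩
    show l * y ∈ ML T
    rw [hy1]
    exact hML l hl _ (hML w ((mem_cornerSp D).2 hw) r hr')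

include hunit in
/-- **The corner is spanned by the powers of one element.** -/
theorem exists_powers_span {p : ℕ} [Fact p.Prime] [CharP k p] {u : G}
    (hP : P = Subgroup.zpowers u) {a : ℕ} (hu : u ^ p ^ a = 1) :
    ∃ x, D.i * x * D.i = x ∧ ∃ n : ℕ, ∀ b, D.i * b * D.i = b →
      b ∈ Submodule.span k (Set.range fun m : Fin n => x ^ (m : ℕ) * D.i) := by
  classical
  obtain ⟨x, hx, hgen⟩ := exists_generator D hP hu
  have hxc := (mem_cornerRad D).1 hx
  have hJ := rad_le_mul D hunit hx hgen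
  set L := cornerSp D with hL
  let W : ℕ → Submodule k (MonoidAlgebra k G) := fun n => L.map (LinearMap.mulRight k (x ^ n))
  -- the chain stops
  have hanti : ∀ n, W (n + 1) ≤ W n := by
    intro n
    rintro _ ⟨l, hl, rfl⟩
    refine ⟨l * x, (mem_cornerSp D).2 (mul_mem_cornerSp D ((mem_cornerSp D).1 hl) hxc.1), ?_⟩
    show l * x * x ^ n = l * x ^ (n + 1)
    rw [pow_succ', mul_assoc]
  obtain ⟨n, hn⟩ : ∃ n, ∀ m, finrank k (W n) ≤ finrank k (W m) :=
    ⟨Function.argmin (fun m => finrank k (W m)),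
      fun m => Function.argmin_le (fun m => finrank k (W m)) m⟩
  have heq := Submodule.eq_of_le_of_finrank_le (hanti n) (hn (n + 1))
  have hxn : D.i * x ^ n = 0 := by
    have hmem : D.i * x ^ n ∈ W (n + 1) := by
      rw [heq]
      exact ⟨D.i, (mem_cornerSp D).2 (i_mem D), rfl⟩
    obtain ⟨l, hl, e⟩ := hmem
    rw [LinearMap.mulRight_apply, pow_succ', ← mul_assoc] at e
    have hlx := mul_mem_cornerSp D ((mem_cornerSp D).1 hl) hxc.1
    obtain ⟨w, hw, hwu⟩ := hunit (D.i - l * x) (by rw [mul_sub, sub_mul, i_mem, hlx])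
      (by rw [map_sub, D.ε_i, D.ε_mul _ _ ((mem_cornerSp D).1 hl) hxc.1, hxc.2, mul_zero, sub_zero]
          exact one_ne_zero)
    calc D.i * x ^ n = w * (D.i - l * x) * (D.i * x ^ n) := by
          rw [hwu, ← mul_assoc, D.idem]
      _ = w * ((D.i - l * x) * D.i * x ^ n) := by simp only [mul_assoc]
      _ = w * 0 := by
          rw [sub_mul, D.idem, mul_i_of_mem D hlx, sub_mul, e, sub_self]
      _ = 0 := mul_zero w
  refine ⟨x, hxc.1, n, fun b hb => ?_⟩
  set T := Submodule.span k (Set.range fun m : Fin n => x ^ (m : ℕ) * D.i)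
  have key : ∀ m, m ≤ n → ∀ b, D.i * b * D.i = b → b * x ^ (n - m) ∈ T := by
    intro m
    induction m with
    | zero =>
      intro _ b hb
      rw [Nat.sub_zero, ← mul_i_of_mem D hb, mul_assoc, hxn, mul_zero]
      exact zero_mem _
    | succ m ih =>
      intro hm b hb
      have hr : b - D.ε b • D.i ∈ cornerRad D := by
        rw [mem_cornerRad, map_sub, map_smul, D.ε_i, smul_eq_mul, mul_one, sub_self]
        refine ⟨?_, rfl⟩
        rw [mul_sub, sub_mul, hb, mul_smul_comm, smul_mul_assoc, D.idem, D.idem]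
      obtain ⟨l, hl, e⟩ := hJ hr
      rw [LinearMap.mulRight_apply] at e
      rw [show b = D.ε b • D.i + l * x by rw [e]; abel, add_mul, smul_mul_assoc,
        mul_assoc, ← pow_succ', show n - (m + 1) + 1 = n - m by omega]
      refine add_mem (Submodule.smul_mem _ _ (Submodule.subset_span ⟨⟨n - (m + 1), by omega⟩, ?_⟩))
        (ih (by omega) l ((mem_cornerSp D).1 hl))
      show x ^ (n - (m + 1)) * D.i = _
      exact (Commute.pow_left (show Commute x D.i from
        (mul_i_of_mem D hxc.1).trans (i_mul_of_mem D hxc.1).symm) _).eq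
  have := key n le_rfl b hb
  rwa [Nat.sub_self, pow_zero, mul_one] at this

end Cfsg.Agent.Lib.CyclicCorner
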