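import Mathlib.LinearAlgebra.FiniteDimensional.Basic
import Mathlib.LinearAlgebra.Dual.Lemmas
import Mathlib.Tactic

/-!
# A nilpotent operator splits the space into invariant pieces of small dimension
-/

set_option autoImplicit false
set_option linter.unusedSectionVars false

namespace Cfsg.Agent.Lib.CyclicCorner

open Module

universe v w

variable {k : Type v} [Field k] {N : Type w} [AddCommGroup N] [Module k N] [FiniteDimensional k N]

/-- **A cyclic piece with an invariant complement.** -/
theorem exists_piece_compl (T : Module.End k N) {t : ℕ} (hT : T ^ (t + 1) = 0)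
    (hT' : T ^ t ≠ 0) :
    ∃ π : Module.End k N, Commute π T ∧ π * π = π ∧ π ≠ 0 ∧
      finrank k (LinearMap.range π) ≤ t + 1 := by
  classical
  obtain ⟨v, hv⟩ : ∃ v, (T ^ t) v ≠ 0 := by
    by_contra h
    push Not at h
    exact hT' (LinearMap.ext h)
  obtain ⟨f, hf⟩ : ∃ f : N →ₗ[k] k, f ((T ^ t) v) = 1 := by
    obtain ⟨f, hf⟩ := Module.Projective.exists_dual_ne_zero k hv
    exact ⟨(f ((T ^ t) v))⁻¹ • f, by simp [inv_mul_cancel₀ hf]⟩
  set inc : (Fin (t + 1) → k) →ₗ[k] N := Fintype.linearCombination k fun j => (T ^ (j : ℕ)) v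
    with hinc
  set prj : N →ₗ[k] (Fin (t + 1) → k) := LinearMap.pi fun j => f.comp (T ^ (j : ℕ)) with hprj
  set E : (Fin (t + 1) → k) →ₗ[k] (Fin (t + 1) → k) := prj.comp inc with hE
  have hpow : ∀ (a b : ℕ) x, (T ^ a) ((T ^ b) x) = (T ^ (a + b)) x := fun a b x => by
    rw [pow_add, Module.End.mul_apply]
  have hbig : ∀ a x, t < a → (T ^ a) x = 0 := fun a x ha => by
    obtain ⟨c, rfl⟩ := Nat.exists_eq_add_of_le (show t + 1 ≤ a from ha)
    rw [pow_add, hT, zero_mul, LinearMap.zero_apply]
  have hEinj : LinearMap.ker E = ⊥ := by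
    refine LinearMap.ker_eq_bot'.2 fun c hc => ?_
    by_contra hne
    obtain ⟨j0, hj0⟩ := Function.ne_iff.1 hne
    let S := Finset.univ.filter fun j : Fin (t + 1) => c j ≠ 0
    have hS : S.Nonempty := ⟨j0, Finset.mem_filter.2 ⟨Finset.mem_univ _, by simpa using hj0⟩⟩
    obtain ⟨jm, hjm, hmin⟩ := S.exists_min_image id hS
    have h1 := congrFun hc ⟨t - (jm : ℕ), by omega⟩
    rw [hE, LinearMap.comp_apply, hprj, LinearMap.pi_apply, LinearMap.comp_apply, hinc,
      Fintype.linearCombination_apply, map_sum, map_sum, Finset.sum_eq_single jm] at h1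
    · simp only [map_smul, hpow] at h1
      rw [show t - (jm : ℕ) + (jm : ℕ) = t by omega, hf, smul_eq_mul, mul_one] at h1
      exact (Finset.mem_filter.1 hjm).2 h1
    · intro j _ hne'
      by_cases hj : c j = 0
      · simp [hj]
      · have hle : jm ≤ j := hmin j (Finset.mem_filter.2 ⟨Finset.mem_univ _, hj⟩)
        have hlt : (jm : ℕ) < (j : ℕ) := lt_of_le_of_ne hle fun h => hne' (Fin.ext h.symm)
        simp only [map_smul, hpow]
        rw [hbig _ _ (by omega), map_zero, smul_zero]
    · exact fun h => absurd (Finset.mem_univ _) h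
  let Ee := LinearEquiv.ofInjectiveEndo E (LinearMap.ker_eq_bot.1 hEinj)
  set π : Module.End k N := inc.comp (Ee.symm.toLinearMap.comp prj) with hπ
  have hret : ∀ c, π (inc c) = inc c := fun c => by
    show inc (Ee.symm (prj (inc c))) = inc c
    rw [show prj (inc c) = Ee c from rfl, LinearEquiv.symm_apply_apply]
  have hidem : π * π = π := LinearMap.ext fun x => hret _
  have hker : ∀ x, prj x = 0 → π x = 0 := fun x hx => by
    show inc (Ee.symm (prj x)) = 0
    rw [hx, map_zero, map_zero]
  -- the kernel is invariant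
  have hkerT : ∀ x, prj x = 0 → prj (T x) = 0 := fun x hx => by
    funext j
    show f ((T ^ (j : ℕ)) (T x)) = 0
    rw [← Module.End.mul_apply, ← pow_succ]
    by_cases hj : (j : ℕ) + 1 < t + 1
    · exact congrFun hx ⟨(j : ℕ) + 1, hj⟩
    · rw [hbig _ _ (by omega), map_zero]
  -- the image is invariant
  have himT : ∀ c, ∃ c', T (inc c) = inc c' := fun c => by
    have hmem : ∀ j : Fin (t + 1), ∃ c', T ((T ^ (j : ℕ)) v) = inc c' := fun j => by
      rw [← Module.End.mul_apply, ← pow_succ']
      by_cases hj : (j : ℕ) + 1 < t + 1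
      · exact ⟨Pi.single ⟨(j : ℕ) + 1, hj⟩ 1, by
          rw [hinc, Fintype.linearCombination_apply_single, one_smul]⟩
      · exact ⟨0, by rw [map_zero, hbig _ _ (by omega)]⟩
    choose c' hc' using hmem
    refine ⟨∑ j, c j • c' j, ?_⟩
    rw [hinc, Fintype.linearCombination_apply, map_sum, map_sum]
    refine Finset.sum_congr rfl fun j _ => ?_
    rw [map_smul, map_smul, hc' j, hinc, Fintype.linearCombination_apply]
  refine ⟨π, LinearMap.ext fun x => ?_, hidem, fun h => hv ?_, ?_⟩
  · show π (T x) = T (π x)
    obtain ⟨c', hc'⟩ := himT (Ee.symm (prj x))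
    have h1 : π (T (π x)) = T (π x) := by
      show π (T (inc (Ee.symm (prj x)))) = T (inc (Ee.symm (prj x)))
      rw [hc', hret]
    have h2 : π (T (x - π x)) = 0 := hker _ (hkerT _ (by
      rw [map_sub]
      show prj x - prj (inc (Ee.symm (prj x))) = 0
      rw [show prj (inc (Ee.symm (prj x))) = Ee (Ee.symm (prj x)) from rfl,
        LinearEquiv.apply_symm_apply, sub_self]))
    rw [map_sub, map_sub, h1, sub_eq_zero] at h2
    exact h2
  · have hv' : π v = v := by
      have h1 : inc (Pi.single 0 1) = v := by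
        rw [hinc, Fintype.linearCombination_apply_single, one_smul]; simp
      rw [← h1, hret]
    rw [h, LinearMap.zero_apply] at hv'
    rw [← hv', map_zero]
  · refine le_trans (Submodule.finrank_mono (LinearMap.range_comp_le_range _ inc)) ?_
    exact (LinearMap.finrank_range_le inc).trans (by simp)

/-- **Projections onto small invariant pieces.** -/
theorem exists_small_projections (T : Module.End k N) {q : ℕ} (hT : T ^ q = 0) :
    ∃ (m : ℕ) (π : Fin m → Module.End k N), (∀ j, Commute (π j) T) ∧
      (∀ j, finrank k (LinearMap.range (π j)) ≤ q) ∧ ∑ j, π j = 1 := by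
  classical
  suffices key : ∀ (n : ℕ) (e : Module.End k N), Commute e T → e * e = e →
      finrank k (LinearMap.range e) ≤ n →
      ∃ (m : ℕ) (π : Fin m → Module.End k N), (∀ j, Commute (π j) T) ∧
        (∀ j, finrank k (LinearMap.range (π j)) ≤ q) ∧ ∑ j, π j = e by
    exact key (finrank k N) 1 (Commute.one_left T) (mul_one 1) (Submodule.finrank_le _)
  intro n
  induction n with
  | zero =>
    intro e _ _ hr
    have he : e = 0 :=
      LinearMap.range_eq_bot.1 (Submodule.finrank_eq_zero.1 (Nat.le_zero.1 hr))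
    exact ⟨0, Fin.elim0, fun j => j.elim0, fun j => j.elim0, by simp [he]⟩
  | succ n ih =>
    intro e heT hee hr
    set U := LinearMap.range e with hU
    by_cases hU0 : e = 0
    · exact ⟨0, Fin.elim0, fun j => j.elim0, fun j => j.elim0, by simp [hU0]⟩
    have hUT : ∀ x ∈ U, T x ∈ U := by
      rintro _ ⟨y, rfl⟩
      exact ⟨T y, LinearMap.congr_fun heT.eq y⟩
    set T' : Module.End k U := T.restrict hUT with hT'def
    have hpow : ∀ (a : ℕ) (x : U), ((T' ^ a) x : N) = (T ^ a) (x : N) := by
      intro a
      induction a with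
      | zero => intro x; simp
      | succ a iha =>
        intro x
        rw [pow_succ, pow_succ, Module.End.mul_apply, Module.End.mul_apply, iha]
        rfl
    have hTq : T' ^ q = 0 := LinearMap.ext fun x => Subtype.ext (by
      rw [hpow, hT]; rfl)
    have hex : ∃ a, T' ^ a = 0 := ⟨q, hTq⟩
    obtain ⟨t, ht⟩ : ∃ t, Nat.find hex = t + 1 := Nat.exists_eq_succ_of_ne_zero fun h => by
      have h0 := Nat.find_spec hex
      rw [h, pow_zero] at h0
      apply hU0
      refine LinearMap.ext fun x => ?_
      exact congrArg Subtype.val (LinearMap.congr_fun h0 (⟨e x, ⟨x, rfl⟩⟩ : U))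
    have htq : t + 1 ≤ q := ht ▸ Nat.find_min' hex hTq
    obtain ⟨ρ, hρT, hρρ, hρ0, hρr⟩ := exists_piece_compl T'
      (show T' ^ (t + 1) = 0 from ht ▸ Nat.find_spec hex)
      (show T' ^ t ≠ 0 from Nat.find_min hex (by omega))
    let π₀ : Module.End k N := U.subtype.comp (ρ.comp e.rangeRestrict)
    have hπe : π₀ * e = π₀ := LinearMap.ext fun x => by
      show ((ρ (e.rangeRestrict (e x)) : U) : N) = _
      rw [show e.rangeRestrict (e x) = e.rangeRestrict x from
        Subtype.ext (LinearMap.congr_fun hee x)]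
      rfl
    have heπ : e * π₀ = π₀ := LinearMap.ext fun x => by
      obtain ⟨y, hy⟩ := (ρ (e.rangeRestrict x)).2
      show e ((ρ (e.rangeRestrict x) : U) : N) = ((ρ (e.rangeRestrict x) : U) : N)
      rw [← hy]
      exact LinearMap.congr_fun hee y
    have hππ : π₀ * π₀ = π₀ := LinearMap.ext fun x => by
      show ((ρ (e.rangeRestrict ((ρ (e.rangeRestrict x) : U) : N)) : U) : N) = _
      have h1 : e.rangeRestrict ((ρ (e.rangeRestrict x) : U) : N) = ρ (e.rangeRestrict x) :=
        Subtype.ext (LinearMap.congr_fun heπ x)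
      rw [h1, ← Module.End.mul_apply ρ ρ, hρρ]
      rfl
    have hπT : Commute π₀ T := LinearMap.ext fun x => by
      show ((ρ (e.rangeRestrict (T x)) : U) : N) = T ((ρ (e.rangeRestrict x) : U) : N)
      have h1 : e.rangeRestrict (T x) = T' (e.rangeRestrict x) :=
        Subtype.ext (LinearMap.congr_fun heT.eq x)
      rw [h1, ← Module.End.mul_apply ρ T', hρT.eq]
      rfl
    have hrest : finrank k (LinearMap.range (e - π₀)) ≤ n := by
      have hlt : LinearMap.range (e - π₀) < U := by
        refine lt_of_le_of_ne ?_ fun heq => hρ0 (LinearMap.ext fun x => ?_)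
        · rintro _ ⟨x, rfl⟩
          refine ⟨x - π₀ x, ?_⟩
          rw [LinearMap.sub_apply, map_sub]
          exact congrArg (e x - ·) (LinearMap.congr_fun heπ x)
        · obtain ⟨y, hy⟩ : (x : N) ∈ LinearMap.range (e - π₀) := by rw [heq]; exact x.2
          have h1 : π₀ (x : N) = 0 := by
            rw [← hy, ← Module.End.mul_apply, mul_sub, hπe, hππ, sub_self, LinearMap.zero_apply]
          obtain ⟨z, hz⟩ := x.2
          have h2 : e.rangeRestrict (x : N) = x := Subtype.ext (by
            show e (x : N) = (x : N)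
            rw [← hz]
            exact LinearMap.congr_fun hee z)
          apply Subtype.ext
          rw [← h2]
          exact h1
      have := Submodule.finrank_lt_finrank_of_lt hlt
      omega
    obtain ⟨m, π, hc, hb, hsum⟩ := ih (e - π₀) (heT.sub_left hπT)
      (by rw [mul_sub, sub_mul, sub_mul, hee, heπ, hπe, hππ]; abel) hrest
    refine ⟨m + 1, Fin.cons π₀ π, fun j => ?_, fun j => ?_, ?_⟩
    · induction j using Fin.cases with
      | zero => rw [Fin.cons_zero]; exact hπT
      | succ i => rw [Fin.cons_succ]; exact hc i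
    · induction j using Fin.cases with
      | zero =>
        rw [Fin.cons_zero]
        refine le_trans ?_ (hρr.trans htq)
        rw [show LinearMap.range π₀ = Submodule.map U.subtype
            (Submodule.map ρ (LinearMap.range e.rangeRestrict)) by
          simp only [π₀, LinearMap.range_comp]]
        exact (Submodule.finrank_map_le _ _).trans (Submodule.finrank_mono LinearMap.map_le_range)
      | succ i => rw [Fin.cons_succ]; exact hb i
    · rw [Fin.sum_univ_succ, Fin.cons_zero]
      simp only [Fin.cons_succ, hsum, add_sub_cancel]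

end Cfsg.Agent.Lib.CyclicCorner
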